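/-
Doubly transitive groups of degree `p² + 1` with an imprimitive point stabiliser: the system of
blocks, the counting lemma, and the case of a two-point stabiliser of order divisible by `p`.
-/
import Mathlib.GroupTheory.Sylow
import Mathlib.GroupTheory.GroupAction.Blocks
import Mathlib.Data.Finset.Prod

set_option autoImplicit false
set_option linter.style.haveILetI false

namespace CfsgLib.DeltaSq

open MulAction Set
open scoped Pointwise

variable {G Ω : Type*} [Group G] [MulAction G Ω] {p : ℕ}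

/-- An equivariant choice, at each point, of a partition of the other points into blocks of size `p`. -/
structure Sys (G Ω : Type*) [Group G] [MulAction G Ω] (p : ℕ) where
  blk : Ω → Ω → Set Ω
  mem : ∀ {a b}, a ≠ b → b ∈ blk a b
  notMem : ∀ {a b}, a ≠ b → a ∉ blk a b
  eq_of_mem : ∀ {a b c}, a ≠ b → c ∈ blk a b → blk a c = blk a b
  card : ∀ {a b}, a ≠ b → (blk a b).ncard = p
  smul : ∀ (g : G) (a b : Ω), g • blk a b = blk (g • a) (g • b)

/-- The ambient hypotheses. -/
structure Hyp (G Ω : Type*) [Group G] [MulAction G Ω] (p : ℕ) : Prop where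
  prime : p.Prime
  card : Nat.card Ω = p ^ 2 + 1
  two : ∀ a b c d : Ω, a ≠ b → c ≠ d → ∃ g : G, g • a = c ∧ g • b = d

variable (H : Hyp G Ω p)
include H

theorem Hyp.finite : Finite Ω := Nat.finite_of_card_ne_zero (by rw [H.card]; omega)

/-- No set of lines of size `p + 1` covers every pair exactly once. -/
theorem false_of_lines (L : Ω → Ω → Set Ω)
    (hmem : ∀ a b, a ≠ b → a ∈ L a b ∧ b ∈ L a b) (hcard : ∀ a b, a ≠ b → (L a b).ncard = p + 1)
    (heq : ∀ a b c d, a ≠ b → c ≠ d → c ∈ L a b → d ∈ L a b → L c d = L a b) : False := by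
  classical
  haveI := H.finite
  haveI := Fintype.ofFinite Ω
  have hp := H.prime
  let s := (Finset.univ : Finset Ω).offDiag
  let f : Ω × Ω → Finset Ω := fun x => (L x.1 x.2).toFinset
  have hf : ∀ t ∈ s.image f, (s.filter fun x => f x = t).card = (p + 1) * p := by
    intro t ht
    obtain ⟨⟨a, b⟩, hab, rfl⟩ := Finset.mem_image.1 ht
    simp only [s, Finset.mem_offDiag, Finset.mem_univ, true_and] at hab
    have e : (s.filter fun x => f x = f (a, b)) = (f (a, b)).offDiag := by
      ext ⟨c, d⟩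
      simp only [s, f, Finset.mem_filter, Finset.mem_offDiag, Finset.mem_univ, true_and,
        Set.mem_toFinset, Set.toFinset_inj]
      constructor
      · rintro ⟨hcd, h⟩
        exact ⟨h ▸ (hmem c d hcd).1, h ▸ (hmem c d hcd).2, hcd⟩
      · rintro ⟨hc, hd, hcd⟩
        exact ⟨hcd, heq a b c d hab hcd hc hd⟩
    rw [e, Finset.offDiag_card]
    have : (f (a, b)).card = p + 1 := by
      simp only [f, ← Set.ncard_eq_toFinset_card']
      exact hcard a b hab
    rw [this, ← Nat.mul_sub_one, Nat.add_sub_cancel]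
  have key := Finset.card_eq_sum_card_fiberwise (s := s) (t := s.image f) (f := f)
    fun x hx => Finset.mem_image_of_mem f hx
  rw [Finset.sum_congr rfl hf, Finset.sum_const, smul_eq_mul] at key
  have hs : s.card = (p ^ 2 + 1) * p ^ 2 := by
    simp only [s, Finset.offDiag_card, Finset.card_univ, ← Nat.card_eq_fintype_card, H.card]
    rw [Nat.mul_add, mul_one]
    omega
  rw [hs] at key
  have hdvd : p + 1 ∣ (p ^ 2 + 1) * p ^ 2 := ⟨(s.image f).card * p, by rw [key]; ring⟩
  have hcop : Nat.Coprime (p + 1) (p ^ 2) := by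
    refine Nat.Coprime.pow_right 2 ?_
    simp
  have h1 : p + 1 ∣ p ^ 2 + 1 := hcop.dvd_of_dvd_mul_right hdvd
  have h2 : p + 1 ∣ 2 := by
    have h3 : p + 1 ∣ (p + 1) * (p - 1) := dvd_mul_right _ _
    have h4 : p ^ 2 + 1 = (p + 1) * (p - 1) + 2 := by
      obtain ⟨k, rfl⟩ : ∃ k, p = k + 1 := ⟨p - 1, by have := hp.pos; omega⟩
      simp; ring
    rw [h4] at h1
    exact (Nat.dvd_add_right h3).1 h1
  have := Nat.le_of_dvd (by norm_num) h2
  have := hp.two_le
  omega

variable (S : Sys G Ω p)

/-- The blocks at two points do not determine the same line for every pair. -/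
theorem false_of_symm (h : ∀ a b, a ≠ b → S.blk b a = insert a (S.blk a b \ {b})) : False := by
  have hsymm : ∀ a b, a ≠ b → insert b (S.blk b a) = insert a (S.blk a b) := by
    intro a b hab
    rw [h a b hab, Set.insert_comm, Set.insert_sdiff_singleton, Set.insert_eq_of_mem (S.mem hab)]
  refine false_of_lines H (fun a b => insert a (S.blk a b))
    (fun a b hab => ⟨mem_insert _ _, mem_insert_of_mem _ (S.mem hab)⟩)
    (fun a b hab => ?_) ?_
  · haveI := H.finite
    rw [Set.ncard_insert_of_notMem (S.notMem hab), S.card hab]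
  intro a b c d hab hcd hc hd
  rcases hc with rfl | hc
  · rcases hd with rfl | hd
    · exact absurd rfl hcd
    · rw [S.eq_of_mem hab hd]
  have hca : c ≠ a := fun e => S.notMem hab (e ▸ hc)
  have h1 : insert c (S.blk c a) = insert a (S.blk a b) := by
    rw [← S.eq_of_mem hab hc]
    exact hsymm a c hca.symm
  have hd' : d ∈ S.blk c a := by
    have : d ∈ insert c (S.blk c a) := h1 ▸ hd
    exact this.resolve_left hcd.symm
  show insert c (S.blk c d) = _
  rw [S.eq_of_mem hca hd', h1]

/-- If the block of `a` at `b` is an orbit of a subgroup fixing `a`, we are done. -/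
theorem false_of_orbit {a b : Ω} (hab : a ≠ b) (W : Subgroup G) (hWa : ∀ w ∈ W, w • a = a)
    (hW : orbit W b = insert b (S.blk b a \ {a})) : False := by
  haveI := H.finite
  obtain ⟨c, hc, hca⟩ := Set.exists_ne_of_one_lt_ncard
    (by rw [S.card hab.symm]; exact H.prime.one_lt) a
  have hcb : c ≠ b := fun e => S.notMem hab.symm (e ▸ hc)
  have hcU : c ∈ orbit W b := by rw [hW]; exact mem_insert_of_mem _ ⟨hc, hca⟩
  obtain ⟨⟨w, hw⟩, hwc⟩ := hcU
  change w • b = c at hwc
  have hU : insert c (S.blk c a \ {a}) = insert b (S.blk b a \ {a}) := by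
    rw [← hW, ← smul_orbit (⟨w, hw⟩ : W) b]
    change _ = w • orbit W b
    rw [hW, smul_set_insert, smul_set_sdiff, smul_set_singleton, S.smul, hwc, hWa w hw]
  have hbc : b ∈ S.blk c a := by
    have : b ∈ insert c (S.blk c a \ {a}) := hU ▸ mem_insert _ _
    exact (this.resolve_left hcb.symm).1
  refine false_of_symm H S fun x y hxy => ?_
  obtain ⟨g, hgb, hgc⟩ := H.two b c x y hcb.symm hxy
  have hpair : S.blk c b = insert b (S.blk b c \ {c}) := by
    rw [S.eq_of_mem hca hbc, S.eq_of_mem hab.symm hc]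
    ext z
    have hUz := Set.ext_iff.1 hU z
    simp only [mem_insert_iff, mem_sdiff, mem_singleton_iff] at hUz ⊢
    constructor
    · intro hz
      have hzc : z ≠ c := fun e => S.notMem hca (e ▸ hz)
      by_cases hza : z = a
      · subst hza
        exact Or.inr ⟨S.mem hab.symm, hzc⟩
      · rcases hUz.1 (Or.inr ⟨hz, hza⟩) with h | h
        · exact Or.inl h
        · exact Or.inr ⟨h.1, hzc⟩
    · rintro (rfl | ⟨hz, hzc⟩)
      · exact hbc
      · by_cases hza : z = a
        · subst hza
          exact S.mem hca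
        · exact ((hUz.2 (Or.inr ⟨hz, hza⟩)).resolve_left hzc).1
  have := congrArg (fun s => g • s) hpair
  simp only [smul_set_insert, smul_set_sdiff, smul_set_singleton, S.smul, hgb, hgc] at this
  exact this

omit H in
/-- The two-point stabiliser. -/
theorem mem_pair {a b : Ω} {g : G} :
    g ∈ stabilizer G a ⊓ stabilizer G b ↔ g • a = a ∧ g • b = b := by
  simp [Subgroup.mem_inf]

theorem exists_swap {a b : Ω} (hab : a ≠ b) : ∃ g : G, g • a = b ∧ g • b = a :=
  H.two a b b a hab hab.symm

variable [Finite G]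

theorem card_stabilizer {a b : Ω} (hab : a ≠ b) :
    Nat.card (stabilizer G a) = p ^ 2 * Nat.card (stabilizer G a ⊓ stabilizer G b : Subgroup G) := by
  haveI := H.finite
  have horb : orbit (stabilizer G a) b = ({a}ᶜ : Set Ω) := by
    ext c
    constructor
    · rintro ⟨⟨g, hg⟩, rfl⟩
      show g • b ≠ a
      intro e
      exact hab.symm (smul_left_cancel g (e.trans (mem_stabilizer_iff.1 hg).symm))
    · intro hc
      obtain ⟨g, hga, hgb⟩ := H.two a b a c hab (Ne.symm hc)
      exact ⟨⟨g, mem_stabilizer_iff.2 hga⟩, hgb⟩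
  have h1 : Nat.card (orbit (stabilizer G a) b) * Nat.card (stabilizer (stabilizer G a) b) =
      Nat.card (stabilizer G a) := by
    rw [← Nat.card_prod]
    exact Nat.card_congr (orbitProdStabilizerEquivGroup _ b)
  have h2 : Nat.card (orbit (stabilizer G a) b) = p ^ 2 := by
    rw [horb, Nat.card_coe_set_eq, Set.ncard_compl, Set.ncard_singleton, H.card]
    omega
  have h3 : Nat.card (stabilizer (stabilizer G a) b) =
      Nat.card (stabilizer G a ⊓ stabilizer G b : Subgroup G) := by
    refine Nat.card_congr ⟨fun x => ⟨x.1.1, x.1.2, x.2⟩, fun x => ⟨⟨x.1, x.2.1⟩, x.2.2⟩,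
      fun x => rfl, fun x => rfl⟩
  rw [← h1, h2, h3]

/-- A `p`-group transitive on the points other than `a`, over a Sylow subgroup of the pair stabiliser. -/
theorem exists_transitive_pGroup {a b : Ω} (hab : a ≠ b) (R : Subgroup G) {j : ℕ}
    (hRc : Nat.card R = p ^ j) (hRle : R ≤ stabilizer G a ⊓ stabilizer G b)
    (hj : j = (Nat.card (stabilizer G a ⊓ stabilizer G b : Subgroup G)).factorization p) :
    ∃ P : Subgroup G, P ≤ stabilizer G a ∧ R ≤ P ∧ Nat.card P = p ^ (2 + j) ∧
      (∀ c, c ≠ a → ∃ x ∈ P, x • b = c) ∧ ∀ x ∈ P, x • b = b → x ∈ R := by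
  haveI := H.finite
  haveI : Fact p.Prime := ⟨H.prime⟩
  have hR : IsPGroup p (R.subgroupOf (stabilizer G a)) :=
    IsPGroup.of_card (n := j) (by rw [Nat.card_congr
      (Subgroup.subgroupOfEquivOfLe (hRle.trans inf_le_left)).toEquiv, hRc])
  obtain ⟨Q, hQ⟩ := hR.exists_le_sylow
  let P : Subgroup G := (Q : Subgroup (stabilizer G a)).map (stabilizer G a).subtype
  have hPle : P ≤ stabilizer G a := Subgroup.map_subtype_le _
  have hRP : R ≤ P := fun r hr => ⟨⟨r, (hRle hr).1⟩, hQ (Subgroup.mem_subgroupOf.2 hr), rfl⟩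
  have hPc : Nat.card P = p ^ (2 + j) := by
    rw [Nat.card_congr (Subgroup.equivMapOfInjective _ _
      (stabilizer G a).subtype_injective).toEquiv.symm, Q.card_eq_multiplicity,
      card_stabilizer H hab, Nat.factorization_mul (pow_ne_zero _ H.prime.ne_zero)
      Nat.card_pos.ne', Finsupp.add_apply, H.prime.factorization_pow, Finsupp.single_eq_same, ← hj]
  have horbstab : Nat.card (orbit P b) * Nat.card (stabilizer P b) = Nat.card P := by
    rw [← Nat.card_prod]
    exact Nat.card_congr (orbitProdStabilizerEquivGroup _ b)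
  have hst : Nat.card (stabilizer P b) = Nat.card (P ⊓ stabilizer G b : Subgroup G) :=
    Nat.card_congr ⟨fun x => ⟨x.1.1, x.1.2, x.2⟩, fun x => ⟨⟨x.1, x.2.1⟩, x.2.2⟩,
      fun x => rfl, fun x => rfl⟩
  obtain ⟨m, hm⟩ := (IsPGroup.of_card hPc).to_le (inf_le_left : P ⊓ stabilizer G b ≤ P) |>.exists_card_eq
  have hmj : m ≤ j := by
    have hd : p ^ m ∣ Nat.card (stabilizer G a ⊓ stabilizer G b : Subgroup G) := by
      rw [← hm]
      exact Subgroup.card_dvd_of_le (inf_le_inf_right _ hPle)
    rw [hj]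
    exact (Nat.Prime.pow_dvd_iff_le_factorization H.prime Nat.card_pos.ne').1 hd
  rw [hst, hm, hPc] at horbstab
  have hsub : orbit P b ⊆ ({a}ᶜ : Set Ω) := by
    rintro _ ⟨⟨g, hg⟩, rfl⟩
    show g • b ≠ a
    intro e
    exact hab.symm (smul_left_cancel g (e.trans (mem_stabilizer_iff.1 (hPle hg)).symm))
  have hcompl : ({a}ᶜ : Set Ω).ncard = p ^ 2 := by
    rw [Set.ncard_compl, Set.ncard_singleton, H.card]; omega
  have hle : (orbit P b).ncard ≤ p ^ 2 := hcompl ▸ Set.ncard_le_ncard hsub
  rw [Nat.card_coe_set_eq] at horbstab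
  have hmj' : m = j := by
    by_contra hne
    have hlt : p ^ m < p ^ j := Nat.pow_lt_pow_right H.prime.one_lt (lt_of_le_of_ne hmj hne)
    have h2 : (orbit P b).ncard * p ^ m < p ^ 2 * p ^ j :=
      lt_of_le_of_lt (Nat.mul_le_mul_right _ hle)
        (Nat.mul_lt_mul_of_pos_left hlt (pow_pos H.prime.pos 2))
    rw [horbstab, pow_add] at h2
    exact lt_irrefl _ h2
  subst hmj'
  have horb : orbit P b = ({a}ᶜ : Set Ω) := by
    refine Set.eq_of_subset_of_ncard_le hsub ?_
    rw [hcompl]
    rw [pow_add] at horbstab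
    exact (Nat.eq_of_mul_eq_mul_right (pow_pos H.prime.pos m) horbstab).ge
  refine ⟨P, hPle, hRP, hPc, fun c hc => ?_, fun x hx hxb => ?_⟩
  · have : c ∈ orbit P b := by rw [horb]; exact hc
    obtain ⟨⟨x, hx⟩, hxc⟩ := this
    exact ⟨x, hx, hxc⟩
  · have e : R = P ⊓ stabilizer G b :=
      Subgroup.eq_of_le_of_card_ge (le_inf hRP (hRle.trans inf_le_right)) (by rw [hm, hRc])
    rw [e]
    exact ⟨hx, mem_stabilizer_iff.2 hxb⟩

/-- Fixed points of a Sylow subgroup of a pair stabiliser of order divisible by `p`. -/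
theorem fix_sylow [FaithfulSMul G Ω] {a b : Ω} (hab : a ≠ b) (R : Subgroup G) {j : ℕ}
    (hRc : Nat.card R = p ^ j) (hRle : R ≤ stabilizer G a ⊓ stabilizer G b)
    (hj : j = (Nat.card (stabilizer G a ⊓ stabilizer G b : Subgroup G)).factorization p)
    (hj0 : j ≠ 0) : {c | ∀ r ∈ R, r • c = c} = insert a (S.blk a b) := by
  haveI := H.finite
  haveI : Fact p.Prime := ⟨H.prime⟩
  obtain ⟨P, hPa, hRP, hPc, htr, hst⟩ := exists_transitive_pGroup H hab R hRc hRle hj
  have hfa : ∀ r ∈ R, r • a = a := fun r hr => (mem_pair.1 (hRle hr)).1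
  have hfb : ∀ r ∈ R, r • b = b := fun r hr => (mem_pair.1 (hRle hr)).2
  have hsub : S.blk a b ⊆ {c | ∀ r ∈ R, r • c = c} := by
    intro c hc r hr
    by_cases hcb : c = b
    · subst hcb; exact hfb r hr
    have hor : orbit R c ⊆ S.blk a b \ {b} := by
      rintro _ ⟨⟨s, hs⟩, rfl⟩
      refine ⟨?_, fun e => hcb ?_⟩
      · have : s • c ∈ s • S.blk a b := smul_mem_smul_set hc
        rwa [S.smul, hfa s hs, hfb s hs] at this
      · exact smul_left_cancel s (e.trans (hfb s hs).symm)
    obtain ⟨k, hk⟩ := (IsPGroup.of_card hRc).card_orbit c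
    have hle := Set.ncard_le_ncard hor
    rw [Set.ncard_sdiff_singleton_of_mem (S.mem hab), S.card hab, ← Nat.card_coe_set_eq, hk] at hle
    have hk0 : k = 0 := by
      by_contra hk0
      have := Nat.le_self_pow hk0 p
      have := H.prime.pos
      omega
    rw [hk0, pow_zero, Nat.card_coe_set_eq] at hk
    obtain ⟨d, hd⟩ := Set.ncard_eq_one.1 hk
    have e1 : r • c ∈ orbit R c := ⟨⟨r, hr⟩, rfl⟩
    have e2 : c ∈ orbit R c := mem_orbit_self c
    rw [hd, mem_singleton_iff] at e1 e2
    rw [e1, ← e2]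
  let N : Subgroup G := P ⊓ Subgroup.normalizer (R : Set G)
  have horbN : orbit N b = {c | ∀ r ∈ R, r • c = c} \ {a} := by
    ext c
    constructor
    · rintro ⟨⟨x, hxP, hxN⟩, rfl⟩
      refine ⟨fun r hr => ?_, fun e => ?_⟩
      · show r • x • b = x • b
        have hc : x⁻¹ * r * x ∈ R := by
          have := (Subgroup.mem_normalizer_iff.1 (inv_mem hxN) r).1 hr
          rwa [inv_inv] at this
        calc r • x • b = x • (x⁻¹ * r * x) • b := by simp only [smul_smul]; group
          _ = x • b := by rw [hfb _ hc]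
      · exact hab.symm (smul_left_cancel x ((show x • b = a from e).trans
          (mem_stabilizer_iff.1 (hPa hxP)).symm))
    · rintro ⟨hc, hca⟩
      obtain ⟨x, hx, rfl⟩ := htr c hca
      have hcl : ∀ r ∈ R, x⁻¹ * r * x ∈ R := by
        intro r hr
        refine hst _ (mul_mem (mul_mem (inv_mem hx) (hRP hr)) hx) ?_
        rw [mul_smul, mul_smul, hc r hr, inv_smul_smul]
      have hxN : x⁻¹ ∈ Subgroup.normalizer (R : Set G) := by
        refine Subgroup.mem_normalizer_fintype (S := (R : Set G)) fun r hr => ?_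
        simpa [inv_inv] using hcl r hr
      exact ⟨⟨x, hx, by simpa using inv_mem hxN⟩, rfl⟩
  obtain ⟨k, hk⟩ := ((IsPGroup.of_card hPc).to_le (inf_le_left : N ≤ P)).card_orbit b
  rw [Nat.card_coe_set_eq, horbN] at hk
  have hsub' : S.blk a b ⊆ {c | ∀ r ∈ R, r • c = c} \ {a} := fun c hc =>
    ⟨hsub hc, fun e => S.notMem hab ((show c = a from e) ▸ hc)⟩
  have hle := Set.ncard_le_ncard hsub'
  rw [S.card hab, hk] at hle
  have hk1 : k ≤ 1 := by
    by_contra hk1
    have hsub2 : {c | ∀ r ∈ R, r • c = c} \ {a} ⊆ ({a}ᶜ : Set Ω) := fun c hc => hc.2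
    have hcompl : ({a}ᶜ : Set Ω).ncard = p ^ 2 := by
      rw [Set.ncard_compl, Set.ncard_singleton, H.card]; omega
    have heq := Set.eq_of_subset_of_ncard_le hsub2
      (by rw [hcompl, hk]; exact Nat.pow_le_pow_right H.prime.pos (by omega))
    have hbot : R = ⊥ := by
      rw [Subgroup.eq_bot_iff_forall]
      intro r hr
      refine eq_of_smul_eq_smul (α := Ω) fun c => ?_
      rw [one_smul]
      by_cases hca : c = a
      · rw [hca]; exact hfa r hr
      · exact ((Set.ext_iff.1 heq c).2 hca).1 r hr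
    rw [hbot, Subgroup.card_bot] at hRc
    have := Nat.one_lt_pow hj0 H.prime.one_lt
    omega
  have hkp : p ^ k ≤ p := by
    calc p ^ k ≤ p ^ 1 := Nat.pow_le_pow_right H.prime.pos hk1
      _ = p := pow_one p
  have heq := Set.eq_of_subset_of_ncard_le hsub' (by rw [hk, S.card hab]; exact hkp)
  rw [heq, Set.insert_sdiff_singleton, Set.insert_eq_of_mem]
  exact hfa

theorem not_dvd_pair [FaithfulSMul G Ω] {a b : Ω} (hab : a ≠ b) (S : Sys G Ω p) :
    ¬ p ∣ Nat.card (stabilizer G a ⊓ stabilizer G b : Subgroup G) := by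
  intro hdvd
  haveI : Fact p.Prime := ⟨H.prime⟩
  let Y : Subgroup G := stabilizer G a ⊓ stabilizer G b
  let j := (Nat.card Y).factorization p
  have hj0 : j ≠ 0 := Finsupp.mem_support_iff.1
    (by rw [Nat.support_factorization]; exact H.prime.mem_primeFactors hdvd Nat.card_pos.ne')
  let Q : Sylow p Y := default
  let R : Subgroup G := (Q : Subgroup Y).map Y.subtype
  have hRle : R ≤ Y := Subgroup.map_subtype_le _
  have hRc : Nat.card R = p ^ j := by
    rw [Nat.card_congr (Subgroup.equivMapOfInjective _ _ Y.subtype_injective).toEquiv.symm,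
      Q.card_eq_multiplicity]
  have h1 := fix_sylow H S hab R hRc hRle rfl hj0
  have h2 := fix_sylow H S hab.symm R hRc (hRle.trans (le_of_eq (inf_comm _ _)))
    (by rw [inf_comm]) hj0
  rw [h1] at h2
  refine false_of_symm H S fun x y hxy => ?_
  obtain ⟨g, hga, hgb⟩ := H.two a b x y hab hxy
  have h3 : S.blk b a = insert a (S.blk a b \ {b}) := by
    have h4 := congrArg (fun s => s \ ({b} : Set Ω)) h2
    simp only [Set.insert_sdiff_of_mem _ (mem_singleton b)] at h4
    rw [Set.sdiff_singleton_eq_self (S.notMem hab.symm)] at h4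
    rw [← h4, Set.insert_sdiff_of_notMem _ (by simpa using hab)]
  have := congrArg (fun s => g • s) h3
  simp only [smul_set_insert, smul_set_sdiff, smul_set_singleton, S.smul, hga, hgb] at this
  exact this

end CfsgLib.DeltaSq
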