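/-
A circulant intertwiner between a doubly transitive action on `ZMod p` and a twist of it, invariant
under a non-trivial multiplier, is trivial.
-/
import Mathlib.RingTheory.Polynomial.Cyclotomic.Roots
import Mathlib.RingTheory.RootsOfUnity.Complex
import Mathlib.Algebra.Field.ZMod
import Mathlib.GroupTheory.GroupAction.Defs

set_option autoImplicit false
set_option linter.style.haveILetI false

namespace CfsgLib.DeltaSq

open Finset Polynomial

variable {p : ℕ} [Fact p.Prime]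

theorem zeta_add {ζ : ℂ} (hζ : ζ ^ p = 1) (i j : ZMod p) :
    ζ ^ (i + j).val = ζ ^ i.val * ζ ^ j.val := by
  rw [ZMod.val_add, ← pow_eq_pow_mod _ hζ, pow_add]

theorem zeta_mul {ζ : ℂ} (hζ : ζ ^ p = 1) (i j : ZMod p) :
    ζ ^ (i * j).val = (ζ ^ i.val) ^ j.val := by
  rw [ZMod.val_mul, ← pow_eq_pow_mod _ hζ, pow_mul]

/-- Powers of the circulant matrix of `f`. -/
def cpow (f : ZMod p → ℚ) : ℕ → ZMod p → ZMod p → ℚ
  | 0, i, j => if i = j then 1 else 0
  | m + 1, i, j => ∑ l, cpow f m i l * f (j - l)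

/-- The transform of a rational function on `ZMod p`. -/
noncomputable def dft (f : ZMod p → ℚ) (ζ : ℂ) : ℂ := ∑ j, (f j : ℂ) * ζ ^ j.val

theorem sum_pow_eq_zero {ζ : ℂ} (hζ : IsPrimitiveRoot ζ p) :
    ∑ j : ZMod p, ζ ^ j.val = 0 := by
  have h1 := hζ.geom_sum_eq_zero (Fact.out : p.Prime).one_lt
  rw [← h1]
  refine Finset.sum_bij (fun j _ => j.val) (fun j _ => Finset.mem_range.2 (ZMod.val_lt j))
    (fun a _ b _ h => ZMod.val_injective p h)
    (fun n hn => ⟨(n : ZMod p), mem_univ _, ZMod.val_natCast_of_lt (Finset.mem_range.1 hn)⟩)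
    (fun j _ => rfl)

/-- An algebraic relation between powers of a primitive root holds at all of them. -/
theorem dft_pow_eq {f : ZMod p → ℚ} {ζ : ℂ} (hζ : IsPrimitiveRoot ζ p) {a b r : ℕ}
    (h : dft f (ζ ^ a) = ζ ^ r * dft f (ζ ^ b)) {t : ℕ} (ht : t.Coprime p) :
    dft f ((ζ ^ t) ^ a) = (ζ ^ t) ^ r * dft f ((ζ ^ t) ^ b) := by
  let P : ℚ[X] := ∑ j : ZMod p, C (f j) * X ^ (a * j.val) -
    X ^ r * ∑ j : ZMod p, C (f j) * X ^ (b * j.val)
  have hP : ∀ z : ℂ, aeval z P = dft f (z ^ a) - z ^ r * dft f (z ^ b) := by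
    intro z
    simp only [P, dft, map_sub, map_mul, map_sum, aeval_C, map_pow, aeval_X, pow_mul,
      eq_ratCast]
  have hp0 : 0 < p := (Fact.out : p.Prime).pos
  have hmin : ∀ z : ℂ, IsPrimitiveRoot z p → minpoly ℚ z = cyclotomic p ℚ := fun z hz =>
    (cyclotomic_eq_minpoly_rat hz hp0).symm
  have h0 : aeval ζ P = 0 := by rw [hP, h, sub_self]
  have hd : minpoly ℚ (ζ ^ t) ∣ P := by
    rw [hmin _ (hζ.pow_of_coprime t ht), ← hmin _ hζ]
    exact minpoly.dvd ℚ ζ h0
  obtain ⟨Q, hQ⟩ := hd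
  have h1 : aeval (ζ ^ t) P = 0 := by rw [hQ, map_mul, minpoly.aeval, zero_mul]
  rwa [hP, sub_eq_zero] at h1

/-- If all transforms at primitive roots agree, the function is constant away from `0`. -/
theorem const_of_dft {f : ZMod p → ℚ} {ζ : ℂ} (hζ : IsPrimitiveRoot ζ p) {φ : ℂ}
    (h : ∀ μ : ZMod p, μ ≠ 0 → dft f (ζ ^ μ.val) = φ) (j : ZMod p) :
    (p : ℂ) * (f j : ℂ) = ∑ l, (f l : ℂ) + (if j = 0 then φ * ((p : ℂ) - 1) else -φ) := by
  have hp1 := hζ.pow_eq_one
  have orth : ∀ i : ZMod p, ∑ μ : ZMod p, ζ ^ (i * μ).val = if i = 0 then (p : ℂ) else 0 := by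
    intro i
    by_cases hi : i = 0
    · simp [hi]
    · rw [if_neg hi]
      rw [← sum_pow_eq_zero hζ]
      exact Fintype.sum_equiv (Equiv.mulLeft₀ i hi) _ _ (fun μ => rfl)
  -- the inversion formula
  have inv : ∑ μ : ZMod p, dft f (ζ ^ μ.val) * ζ ^ (-j * μ).val = (p : ℂ) * (f j : ℂ) := by
    simp only [dft, Finset.sum_mul]
    rw [Finset.sum_comm]
    rw [Finset.sum_eq_single j]
    · have : ∀ μ : ZMod p, (f j : ℂ) * (ζ ^ μ.val) ^ j.val * ζ ^ (-j * μ).val = f j := by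
        intro μ
        rw [← zeta_mul hp1, mul_assoc, ← zeta_add hp1]
        simp [mul_comm μ j]
      rw [Finset.sum_congr rfl fun μ _ => this μ, Finset.sum_const, Finset.card_univ, ZMod.card,
        nsmul_eq_mul]
    · intro l _ hl
      have : ∀ μ : ZMod p, (f l : ℂ) * (ζ ^ μ.val) ^ l.val * ζ ^ (-j * μ).val =
          f l * ζ ^ ((l - j) * μ).val := by
        intro μ
        rw [← zeta_mul hp1, mul_assoc, ← zeta_add hp1]
        congr 3
        ring
      simp_rw [this]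
      rw [← Finset.mul_sum, orth, if_neg (sub_ne_zero.2 hl), mul_zero]
    · simp
  rw [← inv, ← Finset.sum_erase_add _ _ (Finset.mem_univ (0 : ZMod p))]
  have h0 : dft f (ζ ^ (0 : ZMod p).val) * ζ ^ (-j * 0).val = ∑ l, (f l : ℂ) := by
    simp [dft]
  rw [h0, add_comm]
  congr 1
  have h' : ∀ μ ∈ (univ : Finset (ZMod p)).erase 0,
      dft f (ζ ^ μ.val) * ζ ^ (-j * μ).val = φ * ζ ^ (-j * μ).val := by
    intro μ hμ
    rw [h μ (Finset.mem_erase.1 hμ).1]
  rw [Finset.sum_congr rfl h', ← Finset.mul_sum]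
  have h2 := orth (-j)
  rw [← Finset.sum_erase_add _ _ (Finset.mem_univ (0 : ZMod p))] at h2
  simp only [mul_zero, ZMod.val_zero, pow_zero, neg_eq_zero] at h2
  rw [eq_sub_of_add_eq h2]
  split <;> ring

theorem circulant_trivial {K : Type*} [Group K] (π : K → ZMod p → ZMod p)
    (hbij : ∀ k, Function.Bijective (π k))
    (h2t : ∀ a b c d : ZMod p, a ≠ b → c ≠ d → ∃ k, π k a = c ∧ π k b = d)
    (σ : K → K) (q : ZMod p) (hσ : ∀ k j, π (σ^[p] k) j = π k (j + q) - q)
    (f : ZMod p → ℚ) (hinv : ∀ k i j, f (π (σ k) j - π k i) = f (j - i))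
    (lam : ZMod p) (hl0 : lam ≠ 0) (hl1 : lam ≠ 1) (hlam : ∀ i, f (lam * i) = f i)
    (hne : ∃ i j, f i ≠ f j) :
    q = 0 ∧ (∀ j, j ≠ 0 → f j = f 1) ∧ f 0 ≠ f 1 := by
  classical
  haveI : NeZero p := ⟨(Fact.out : p.Prime).ne_zero⟩
  obtain ⟨ζ, hζ⟩ : ∃ ζ : ℂ, IsPrimitiveRoot ζ p :=
    ⟨_, Complex.isPrimitiveRoot_exp p (NeZero.ne p)⟩
  have hp1 := hζ.pow_eq_one
  -- powers of the intertwiner
  have hA : ∀ m k i j, cpow f m (π k i) (π (σ^[m] k) j) = cpow f m i j := by
    intro m k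
    induction m with
    | zero => intro i j; simp [cpow, (hbij k).1.eq_iff]
    | succ m ih =>
      intro i j
      show ∑ l, cpow f m (π k i) l * f (π (σ^[m + 1] k) j - l) = ∑ l, cpow f m i l * f (j - l)
      rw [Function.iterate_succ_apply']
      refine (Fintype.sum_bijective _ (hbij (σ^[m] k)) _ _ fun l => ?_).symm
      rw [ih, hinv]
  have hdftA : ∀ (m : ℕ) (z : ℂ), z ^ p = 1 →
      ∑ j : ZMod p, ((cpow f m 0 j : ℚ) : ℂ) * z ^ j.val = dft f z ^ m := by
    intro m z hz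
    induction m with
    | zero =>
      rw [Finset.sum_eq_single 0] <;> simp +contextual [cpow, eq_comm]
    | succ m ih =>
      calc ∑ j, (((∑ l, cpow f m 0 l * f (j - l)) : ℚ) : ℂ) * z ^ j.val
          = ∑ l, ∑ j, (cpow f m 0 l : ℂ) * f (j - l) * z ^ j.val := by
            push_cast
            simp_rw [Finset.sum_mul]
            rw [Finset.sum_comm]
        _ = ∑ l, ∑ i, (cpow f m 0 l : ℂ) * f i * z ^ (i + l).val := by
            refine Finset.sum_congr rfl fun l _ => ?_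
            refine Fintype.sum_equiv (Equiv.subRight l) _ _ fun j => ?_
            simp
        _ = (∑ l, (cpow f m 0 l : ℂ) * z ^ l.val) * ∑ i, (f i : ℂ) * z ^ i.val := by
            rw [Finset.sum_mul_sum]
            refine Finset.sum_congr rfl fun l _ => Finset.sum_congr rfl fun i _ => ?_
            rw [zeta_add hz]
            ring
        _ = dft f z ^ (m + 1) := by rw [ih, pow_succ]; rfl
  -- the commuting matrix
  let C : ZMod p → ZMod p → ℚ := fun i j => cpow f p i (j - q)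
  have hC : ∀ k i j, C (π k i) (π k j) = C i j := by
    intro k i j
    show cpow f p (π k i) (π k j - q) = cpow f p i (j - q)
    have h := hσ k (j - q)
    rw [sub_add_cancel] at h
    rw [← h, hA]
  have hCc : ∀ j, j ≠ 0 → C 0 j = C 0 1 := by
    intro j hj
    obtain ⟨k, h1, h2⟩ := h2t 0 1 0 j zero_ne_one hj.symm
    have := hC k 0 1
    rwa [h1, h2] at this
  let α : ℂ := (C 0 0 : ℂ) - C 0 1
  have hα : ∀ z : ℂ, IsPrimitiveRoot z p → z ^ q.val * dft f z ^ p = α := by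
    intro z hz
    rw [← hdftA p z hz.pow_eq_one, Finset.mul_sum]
    have : ∑ i, z ^ q.val * ((cpow f p 0 i : ℂ) * z ^ i.val) = ∑ j, (C 0 j : ℂ) * z ^ j.val := by
      refine Fintype.sum_equiv (Equiv.addRight q) _ _ fun i => ?_
      simp only [Equiv.coe_addRight, C, add_sub_cancel_right, zeta_add hz.pow_eq_one]
      ring
    rw [this]
    have hs := sum_pow_eq_zero hz
    rw [← Finset.sum_erase_add _ _ (Finset.mem_univ (0 : ZMod p))] at hs ⊢
    simp only [ZMod.val_zero, pow_zero, mul_one] at hs ⊢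
    have : ∀ j ∈ (univ : Finset (ZMod p)).erase 0,
        (C 0 j : ℂ) * z ^ j.val = (C 0 1 : ℂ) * z ^ j.val := by
      intro j hj
      rw [hCc j (Finset.mem_erase.1 hj).1]
    rw [Finset.sum_congr rfl this, ← Finset.mul_sum]
    simp only [α]
    linear_combination (C 0 1 : ℂ) * hs
  have hprim : ∀ μ : ZMod p, μ ≠ 0 → IsPrimitiveRoot (ζ ^ μ.val) p := by
    intro μ hμ
    refine hζ.pow_of_coprime _ (((Fact.out : p.Prime).coprime_iff_not_dvd.2 fun hd => ?_).symm)
    exact hμ ((ZMod.val_eq_zero _).1 (Nat.eq_zero_of_dvd_of_lt hd (ZMod.val_lt _)))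
  have hlamdft : ∀ z : ℂ, z ^ p = 1 → dft f (z ^ lam.val) = dft f z := by
    intro z hz
    refine Fintype.sum_equiv (Equiv.mulLeft₀ lam hl0) _ _ fun i => ?_
    simp only [Equiv.mulLeft₀_apply, hlam, zeta_mul hz]
  -- `α ≠ 0`
  have hα0 : α ≠ 0 := by
    intro h0
    have hz : ∀ μ : ZMod p, μ ≠ 0 → dft f (ζ ^ μ.val) = 0 := by
      intro μ hμ
      have h := hα _ (hprim μ hμ)
      rw [h0, mul_eq_zero] at h
      rcases h with h | h
      · exact absurd (pow_eq_zero_iff'.1 h).1 ((hprim μ hμ).ne_zero (NeZero.ne p))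
      · exact (pow_eq_zero_iff'.1 h).1
    obtain ⟨i, j, hij⟩ := hne
    refine hij ?_
    have hi := const_of_dft hζ hz i
    have hj := const_of_dft hζ hz j
    have e : (p : ℂ) * (f i : ℂ) = (p : ℂ) * f j := by
      rw [hi, hj]; simp
    exact_mod_cast mul_left_cancel₀ (by exact_mod_cast (Fact.out : p.Prime).ne_zero) e
  have hinjpow : ∀ a b : ZMod p, ζ ^ a.val = ζ ^ b.val → a = b := fun a b h =>
    ZMod.val_injective p (hζ.pow_inj (ZMod.val_lt a) (ZMod.val_lt b) h)
  -- the shift vanishes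
  have hq : q = 0 := by
    have h1 := hα _ (hprim lam hl0)
    have h0 := hα ζ hζ
    rw [hlamdft ζ hp1, ← h0, ← zeta_mul hp1] at h1
    have hne' : dft f ζ ^ p ≠ 0 := fun e => hα0 (by rw [← h0, e, mul_zero])
    have h2 := hinjpow _ _ (mul_right_cancel₀ hne' h1)
    by_contra hq
    exact hl1 (by simpa [hq] using h2)
  subst hq
  -- all transforms agree
  have hall : ∀ μ : ZMod p, μ ≠ 0 → dft f (ζ ^ μ.val) = dft f ζ := by
    intro μ hμ
    have h1 := hα _ (hprim μ hμ)
    have h0 := hα ζ hζ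
    simp only [ZMod.val_zero, pow_zero, one_mul] at h1 h0
    have hne' : dft f ζ ≠ 0 := fun e => hα0 (by rw [← h0, e, zero_pow (NeZero.ne p)])
    have hr : (dft f (ζ ^ μ.val) / dft f ζ) ^ p = 1 := by
      rw [div_pow, h1, h0, div_self hα0]
    obtain ⟨r, hrp, hr'⟩ := hζ.eq_pow_of_pow_eq_one hr
    have e1 : dft f (ζ ^ μ.val) = ζ ^ r * dft f (ζ ^ 1) := by
      rw [pow_one, hr', div_mul_cancel₀ _ hne']
    have hcop : lam.val.Coprime p := ((Fact.out : p.Prime).coprime_iff_not_dvd.2 fun hd =>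
      hl0 ((ZMod.val_eq_zero _).1 (Nat.eq_zero_of_dvd_of_lt hd (ZMod.val_lt _)))).symm
    have e2 := dft_pow_eq hζ e1 hcop
    rw [pow_one, hlamdft ζ hp1, ← pow_mul ζ lam.val μ.val, mul_comm lam.val, pow_mul ζ μ.val,
      hlamdft _ (by rw [← pow_mul, mul_comm, pow_mul, hp1, one_pow]), e1, pow_one] at e2
    have hr0 : (r : ZMod p) = lam * r := by
      apply hinjpow
      rw [zeta_mul hp1, ZMod.val_natCast_of_lt hrp]
      exact mul_right_cancel₀ hne' e2
    have : (r : ZMod p) = 0 := by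
      by_contra hr0'
      exact hl1 (by simpa [hr0'] using hr0.symm)
    have : r = 0 := by
      rw [← ZMod.val_natCast_of_lt hrp, this, ZMod.val_zero]
    rw [e1, this, pow_zero, one_mul, pow_one]
  have hconst : ∀ j, j ≠ 0 → f j = f 1 := by
    intro j hj
    have h1 := const_of_dft hζ hall j
    have h2 := const_of_dft hζ hall 1
    rw [if_neg hj] at h1
    rw [if_neg one_ne_zero, ← h1] at h2
    exact_mod_cast (mul_left_cancel₀ (by exact_mod_cast (Fact.out : p.Prime).ne_zero) h2).symm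
  refine ⟨rfl, hconst, fun h01 => ?_⟩
  obtain ⟨i, j, hij⟩ := hne
  have hc : ∀ i, f i = f 1 := fun i => by
    by_cases hi : i = 0
    · rw [hi, h01]
    · exact hconst i hi
  exact hij (by rw [hc i, hc j])

end CfsgLib.DeltaSq
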