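/-
Doubly transitive groups of degree `p² + 1` with an imprimitive point stabiliser: the regular
subgroup of order `p²` at a point and the kernel on the blocks.
-/
import Cfsg.Agent.DeltaSq.Basic
import Mathlib.GroupTheory.GroupAction.Primitive
import Mathlib.GroupTheory.Solvable
import Mathlib.GroupTheory.Perm.Cycle.Type
import Mathlib.Algebra.Field.ZMod
import Mathlib.Data.Nat.Prime.Factorial
import Mathlib.GroupTheory.GroupAction.FixingSubgroup

set_option autoImplicit false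
set_option linter.style.haveILetI false
set_option linter.unusedSectionVars false

namespace CfsgLib.DeltaSq

open MulAction Set
open scoped Pointwise

theorem exists_normal_commutative {T : Type*} [Group T] [Nontrivial T] (hs : Group.IsSolvable T) :
    ∃ A : Subgroup T, A.Normal ∧ A ≠ ⊥ ∧ ∀ x ∈ A, ∀ y ∈ A, x * y = y * x := by
  classical
  obtain ⟨n, hn⟩ := (Group.isSolvable_def T).1 hs
  have hex : ∃ n, derivedSeries T n = ⊥ := ⟨n, hn⟩
  have h0 : Nat.find hex ≠ 0 := fun e => top_ne_bot ((derivedSeries_zero T) ▸ (e ▸ Nat.find_spec hex))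
  obtain ⟨m, hm⟩ := Nat.exists_eq_succ_of_ne_zero h0
  refine ⟨derivedSeries T m, inferInstance, Nat.find_min hex (by omega), fun x hx y hy => ?_⟩
  have h := Nat.find_spec hex
  rw [hm, derivedSeries_succ] at h
  have := Subgroup.commutator_mem_commutator hx hy
  rw [h, Subgroup.mem_bot, commutatorElement_eq_one_iff_mul_comm] at this
  exact this

/-- A solvable transitive group of prime degree has its elements of order `p` in one abelian normal
subgroup of order `p`. -/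
theorem exists_normal_prime_order {p : ℕ} [Fact p.Prime] {T X : Type*} [Group T] [Finite T]
    [MulAction T X] [FaithfulSMul T X] [IsPretransitive T X] (hX : Nat.card X = p)
    (hs : Group.IsSolvable T) :
    ∃ A : Subgroup T, A.Normal ∧ Nat.card A = p ∧ ∀ x : T, x ^ p = 1 → x ∈ A := by
  classical
  have hp : p.Prime := Fact.out
  haveI : Finite X := Nat.finite_of_card_ne_zero (by rw [hX]; exact hp.ne_zero)
  haveI := Fintype.ofFinite X
  obtain ⟨x₀⟩ : Nonempty X := (Nat.card_pos_iff.1 (hX ▸ hp.pos)).1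
  haveI : Nontrivial T := by
    by_contra hn
    rw [not_nontrivial_iff_subsingleton] at hn
    haveI : Subsingleton X := ⟨fun u v => by
      obtain ⟨g, hg⟩ := exists_smul_eq T u v
      rw [← hg, Subsingleton.elim g 1, one_smul]⟩
    have := Finite.card_le_one_iff_subsingleton.2 (inferInstance : Subsingleton X)
    rw [hX] at this
    exact absurd hp.one_lt (by omega)
  obtain ⟨A, hAn, hA1, hAc⟩ := exists_normal_commutative hs
  have hprim : IsPreprimitive T X := IsPreprimitive.of_prime_card (hX ▸ hp)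
  have hAt : IsPretransitive A X := by
    refine IsQuasiPreprimitive.isPretransitive_of_normal (G := T) fun h => hA1 ?_
    rw [Subgroup.eq_bot_iff_forall]
    intro g hg
    refine eq_of_smul_eq_smul (α := X) fun c => ?_
    have : c ∈ fixedPoints A X := h ▸ Set.mem_univ c
    rw [one_smul]
    exact this ⟨g, hg⟩
  have hAcard : Nat.card A = p := by
    have hst : stabilizer A x₀ = ⊥ := by
      rw [Subgroup.eq_bot_iff_forall]
      rintro ⟨g, hg⟩ hgx
      refine Subtype.ext (eq_of_smul_eq_smul (α := X) fun c => ?_)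
      obtain ⟨⟨k, hk⟩, rfl⟩ := exists_smul_eq A x₀ c
      show g • k • x₀ = (1 : T) • k • x₀
      rw [one_smul, smul_smul, hAc g hg k hk, mul_smul]
      rw [mem_stabilizer_iff] at hgx
      exact congrArg (k • ·) hgx
    have := index_stabilizer_of_transitive A x₀
    rw [hst, Subgroup.index_bot, hX] at this
    exact this
  refine ⟨A, hAn, hAcard, fun x hx => ?_⟩
  have hsq : ¬ p ∣ A.index := by
    intro hd
    have h1 : Nat.card A * A.index ∣ Nat.card (Equiv.Perm X) := by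
      rw [Subgroup.card_mul_index]
      exact Subgroup.card_dvd_of_injective _ (MulAction.toPerm_injective (α := T) (β := X) |>
        fun h => show Function.Injective (MulAction.toPermHom T X) from h)
    rw [hAcard, Nat.card_eq_fintype_card, Fintype.card_perm, ← Nat.card_eq_fintype_card, hX,
      ← Nat.mul_factorial_pred hp.ne_zero] at h1
    have h2 := dvd_trans hd ((Nat.mul_dvd_mul_iff_left hp.pos).1 h1)
    have := hp.dvd_factorial.1 h2
    have := hp.pos
    omega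
  have h1 : ((x : T ⧸ A)) ^ p = 1 := by rw [← QuotientGroup.mk_pow, hx, QuotientGroup.mk_one]
  rcases (Nat.dvd_prime hp).1 (orderOf_dvd_of_pow_eq_one h1) with h2 | h2
  · exact (QuotientGroup.eq_one_iff x).1 (orderOf_eq_one_iff.1 h2)
  · refine absurd ?_ hsq
    rw [← h2, Subgroup.index]
    exact orderOf_dvd_natCard _

/-- The data once the two-point stabiliser has order prime to `p`. -/
structure Ctx (G Ω : Type*) [Group G] [MulAction G Ω] (p : ℕ) where
  H : Hyp G Ω p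
  S : Sys G Ω p
  a : Ω
  b : Ω
  hab : a ≠ b
  P : Subgroup G
  P_le : P ≤ stabilizer G a
  P_card : Nat.card P = p ^ 2
  P_trans : ∀ c, c ≠ a → ∃ x ∈ P, x • b = c
  P_free : ∀ x ∈ P, x • b = b → x = 1
  not_dvd : ¬ p ∣ Nat.card (stabilizer G a ⊓ stabilizer G b : Subgroup G)

theorem exists_ctx {G Ω : Type*} [Group G] [Finite G] [MulAction G Ω] [FaithfulSMul G Ω] {p : ℕ}
    (H : Hyp G Ω p) (S : Sys G Ω p) {a b : Ω} (hab : a ≠ b) :
    ∃ C : Ctx G Ω p, C.a = a ∧ C.b = b := by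
  have hnd := not_dvd_pair H hab S
  obtain ⟨P, h1, -, h3, h4, h5⟩ := exists_transitive_pGroup H hab ⊥ (j := 0)
    (by rw [Subgroup.card_bot, pow_zero]) bot_le (Nat.factorization_eq_zero_of_not_dvd hnd).symm
  exact ⟨⟨H, S, a, b, hab, P, h1, by simpa using h3, h4,
    fun x hx hxb => Subgroup.mem_bot.1 (h5 x hx hxb), hnd⟩, rfl, rfl⟩

namespace Ctx

variable {G Ω : Type*} [Group G] [Finite G] [MulAction G Ω] [FaithfulSMul G Ω] {p : ℕ}
  (C : Ctx G Ω p)

/-- The two-point stabiliser. -/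
abbrev Y : Subgroup G := stabilizer G C.a ⊓ stabilizer G C.b

/-- The block of `b` at `a`. -/
abbrev B : Set Ω := C.S.blk C.a C.b

/-- The block of `a` at `b`, without `a`. -/
abbrev D : Set Ω := C.S.blk C.b C.a \ {C.a}

theorem fix_a {x : G} (hx : x ∈ C.P) : x • C.a = C.a := C.P_le hx

theorem ne_a {g : G} (hg : g • C.a = C.a) {c : Ω} (hc : c ≠ C.a) : g • c ≠ C.a := fun e =>
  hc (smul_left_cancel g (e.trans hg.symm))

theorem comm {x y : G} (hx : x ∈ C.P) (hy : y ∈ C.P) : x * y = y * x := by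
  haveI : Fact p.Prime := ⟨C.H.prime⟩
  haveI := IsPGroup.isMulCommutative_of_card_eq_prime_sq C.P_card
  exact congrArg Subtype.val (mul_comm' (⟨x, hx⟩ : C.P) ⟨y, hy⟩)

theorem free {x : G} (hx : x ∈ C.P) {c : Ω} (hc : c ≠ C.a) (h : x • c = c) : x = 1 := by
  obtain ⟨w, hw, rfl⟩ := C.P_trans c hc
  refine C.P_free x hx ?_
  rw [smul_smul, C.comm hx hw, mul_smul] at h
  exact smul_left_cancel w h

/-- Translates of the block of `b`. -/
theorem smul_B {x : G} (hx : x • C.a = C.a) : x • C.B = C.S.blk C.a (x • C.b) := by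
  rw [B, C.S.smul, hx]

/-- The set stabiliser of the block of `b` in `P`. -/
def Z : Subgroup G := C.P ⊓ stabilizer G C.B

theorem Z_le : C.Z ≤ C.P := inf_le_left

theorem smul_b_mem {x : G} (hx : x ∈ C.P) : x • C.b ∈ C.B ↔ x ∈ C.Z := by
  constructor
  · intro h
    refine ⟨hx, mem_stabilizer_iff.2 ?_⟩
    rw [C.smul_B (C.fix_a hx), C.S.eq_of_mem C.hab h]
  · rintro ⟨-, h⟩
    rw [← mem_stabilizer_iff.1 h]
    exact smul_mem_smul_set (C.S.mem C.hab)

theorem exists_Z {c : Ω} (hc : c ∈ C.B) : ∃ w ∈ C.Z, w • C.b = c := by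
  obtain ⟨w, hw, rfl⟩ := C.P_trans c (fun e => C.S.notMem C.hab (show C.a ∈ C.B from e ▸ hc))
  exact ⟨w, (C.smul_b_mem hw).1 hc, rfl⟩

theorem orbit_Z : orbit C.Z C.b = C.B := by
  ext c
  constructor
  · rintro ⟨⟨w, hw⟩, rfl⟩
    exact (C.smul_b_mem (C.Z_le hw)).2 hw
  · intro hc
    obtain ⟨w, hw, rfl⟩ := C.exists_Z hc
    exact ⟨⟨w, hw⟩, rfl⟩

theorem card_orbit_b {W : Subgroup G} (hW : W ≤ C.P) : (orbit W C.b).ncard = Nat.card W := by
  rw [← Nat.card_coe_set_eq]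
  refine (Nat.card_congr (Equiv.ofBijective (fun w : W => (⟨w • C.b, mem_orbit _ _⟩ : orbit W C.b))
    ⟨fun v w e => ?_, fun ⟨c, w, hw⟩ => ⟨w, Subtype.ext hw⟩⟩)).symm
  have e' : (v : G) • C.b = (w : G) • C.b := congrArg Subtype.val e
  refine Subtype.ext ?_
  have h := C.P_free ((w : G)⁻¹ * v) (mul_mem (inv_mem (hW w.2)) (hW v.2))
    (by rw [mul_smul, e', inv_smul_smul])
  exact (inv_mul_eq_one.1 h).symm

theorem card_Z : Nat.card C.Z = p := by
  rw [← C.card_orbit_b C.Z_le, C.orbit_Z, C.S.card C.hab]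

theorem exists_gen : ∃ z ∈ C.Z, orderOf z = p ∧ Subgroup.zpowers z = C.Z := by
  haveI : Fact p.Prime := ⟨C.H.prime⟩
  obtain ⟨⟨z, hz⟩, ho⟩ := exists_prime_orderOf_dvd_card' (G := C.Z) p (by rw [C.card_Z])
  rw [Subgroup.orderOf_mk] at ho
  refine ⟨z, hz, ho, Subgroup.eq_of_le_of_card_ge (Subgroup.zpowers_le.2 hz) ?_⟩
  rw [C.card_Z, Nat.card_zpowers, ho]

/-- A chosen generator of `Z`. -/
noncomputable def z : G := C.exists_gen.choose

theorem z_mem : C.z ∈ C.Z := C.exists_gen.choose_spec.1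

theorem z_order : orderOf C.z = p := C.exists_gen.choose_spec.2.1

theorem zpowers_z : Subgroup.zpowers C.z = C.Z := C.exists_gen.choose_spec.2.2

theorem z_pow_add (i j : ZMod p) : C.z ^ (i + j).val = C.z ^ i.val * C.z ^ j.val := by
  haveI : NeZero p := ⟨C.H.prime.ne_zero⟩
  rw [← pow_add, ZMod.val_add]
  conv_rhs => rw [← pow_mod_orderOf, C.z_order]

theorem z_pow_mul (i j : ZMod p) : C.z ^ (i * j).val = (C.z ^ i.val) ^ j.val := by
  rw [← pow_mul, ZMod.val_mul]
  conv_rhs => rw [← pow_mod_orderOf, C.z_order]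

theorem exists_pow {w : G} (hw : w ∈ C.Z) : ∃ i : ZMod p, C.z ^ i.val = w := by
  haveI : NeZero p := ⟨C.H.prime.ne_zero⟩
  rw [← C.zpowers_z, ← mem_powers_iff_mem_zpowers] at hw
  obtain ⟨n, rfl⟩ := hw
  refine ⟨(n : ZMod p), ?_⟩
  show C.z ^ (n : ZMod p).val = C.z ^ n
  rw [ZMod.val_natCast]
  conv_rhs => rw [← pow_mod_orderOf, C.z_order]

theorem z_pow_inj {i j : ZMod p} (h : C.z ^ i.val = C.z ^ j.val) : i = j := by
  haveI : NeZero p := ⟨C.H.prime.ne_zero⟩
  exact ZMod.val_injective p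
    (pow_injOn_Iio_orderOf (by rw [C.z_order]; exact ZMod.val_lt i) (by rw [C.z_order]; exact ZMod.val_lt j) h)

theorem chart_inj {i j : ZMod p} (h : C.z ^ i.val • C.b = C.z ^ j.val • C.b) : i = j := by
  refine C.z_pow_inj ?_
  have hz := C.Z_le C.z_mem
  have h' := C.P_free ((C.z ^ j.val)⁻¹ * C.z ^ i.val)
    (mul_mem (inv_mem (pow_mem hz _)) (pow_mem hz _)) (by rw [mul_smul, h, inv_smul_smul])
  exact (inv_mul_eq_one.1 h').symm

theorem exists_chart {c : Ω} (hc : c ∈ C.B) : ∃ i : ZMod p, C.z ^ i.val • C.b = c := by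
  obtain ⟨w, hw, rfl⟩ := C.exists_Z hc
  obtain ⟨i, rfl⟩ := C.exists_pow hw
  exact ⟨i, rfl⟩

/-- The kernel of the action on the blocks at `a`. -/
def K : Subgroup G where
  carrier := {g | g • C.a = C.a ∧ ∀ c, c ≠ C.a → g • C.S.blk C.a c = C.S.blk C.a c}
  one_mem' := ⟨one_smul _ _, fun c _ => one_smul _ _⟩
  mul_mem' := fun {g h} hg hh => ⟨by rw [mul_smul, hh.1, hg.1],
    fun c hc => by rw [mul_smul, hh.2 c hc, hg.2 c hc]⟩
  inv_mem' := fun {g} hg => ⟨inv_smul_eq_iff.2 hg.1.symm,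
    fun c hc => inv_smul_eq_iff.2 (hg.2 c hc).symm⟩

theorem mem_K {g : G} : g ∈ C.K ↔
    g • C.a = C.a ∧ ∀ c, c ≠ C.a → g • C.S.blk C.a c = C.S.blk C.a c := Iff.rfl

theorem K_conj {g k : G} (hg : g • C.a = C.a) (hk : k ∈ C.K) : g * k * g⁻¹ ∈ C.K := by
  have hgi : g⁻¹ • C.a = C.a := inv_smul_eq_iff.2 hg.symm
  refine ⟨by rw [mul_smul, mul_smul, hgi, hk.1, hg], fun c hc => ?_⟩
  rw [mul_smul, mul_smul, C.S.smul g⁻¹, hgi, hk.2 _ (C.ne_a hgi hc), C.S.smul g, hg, smul_inv_smul]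

theorem K_conj' {g k : G} (hg : g • C.a = C.a) (hk : k ∈ C.K) : g⁻¹ * k * g ∈ C.K := by
  simpa using C.K_conj (inv_smul_eq_iff.2 hg.symm) hk

theorem Z_le_K : C.Z ≤ C.K := by
  intro w hw
  refine ⟨C.fix_a (C.Z_le hw), fun c hc => ?_⟩
  obtain ⟨x, hx, rfl⟩ := C.P_trans c hc
  rw [← C.smul_B (C.fix_a hx), smul_smul, C.comm (C.Z_le hw) hx, mul_smul,
    mem_stabilizer_iff.1 hw.2]

theorem K_smul_blk {k : G} (hk : k ∈ C.K) {c d : Ω} (hc : c ≠ C.a) (hd : d ∈ C.S.blk C.a c) :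
    k • d ∈ C.S.blk C.a c := by
  rw [← hk.2 c hc]
  exact smul_mem_smul_set hd

theorem K_smul_b {k : G} (hk : k ∈ C.K) : ∃ i : ZMod p, C.z ^ i.val • C.b = k • C.b :=
  C.exists_chart (C.K_smul_blk hk C.hab.symm (C.S.mem C.hab))

theorem blk_eq {x : G} (hx : x ∈ C.P) :
    C.S.blk C.a (x • C.b) = (fun w => x • w • C.b) '' (C.Z : Set G) := by
  rw [← C.smul_B (C.fix_a hx), ← C.orbit_Z]
  ext c
  constructor
  · rintro ⟨_, ⟨⟨w, hw⟩, rfl⟩, rfl⟩
    exact ⟨w, hw, rfl⟩
  · rintro ⟨w, hw, rfl⟩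
    exact smul_mem_smul_set ⟨⟨w, hw⟩, rfl⟩

/-- A subgroup of `K` of order prime to `p` normalised by `Z` is trivial. -/
theorem eq_bot_of_coprime {M : Subgroup G} (hM : M ≤ C.K) (hZM : C.Z ≤ Subgroup.normalizer (M : Set G))
    (hp : ¬ p ∣ Nat.card M) : M = ⊥ := by
  haveI := C.H.finite
  haveI : Fact p.Prime := ⟨C.H.prime⟩
  rw [Subgroup.eq_bot_iff_forall]
  intro m hm
  refine eq_of_smul_eq_smul (α := Ω) fun c => ?_
  rw [one_smul]
  by_cases hc : c = C.a
  · rw [hc]; exact (hM hm).1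
  by_contra hne
  have hO : orbit M c ⊆ C.S.blk C.a c := by
    rintro _ ⟨⟨k, hk⟩, rfl⟩
    exact C.K_smul_blk (hM hk) hc (C.S.mem (Ne.symm hc))
  have hfull : ∀ w ∈ C.Z, ∀ d ∈ orbit M c, w • d ∈ orbit M c → w ≠ 1 → False := by
    intro w hw d hd hwd hw1
    have hstab : w • orbit M c = orbit M c := by
      have e1 : orbit M d = orbit M c := orbit_eq_iff.2 hd
      have e2 : orbit M (w • d) = orbit M c := orbit_eq_iff.2 hwd
      have e3 : w • orbit M d = orbit M (w • d) := by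
        ext u
        constructor
        · rintro ⟨_, ⟨⟨k, hk⟩, rfl⟩, rfl⟩
          refine ⟨⟨w * k * w⁻¹, (Subgroup.mem_normalizer_iff.1 (hZM hw) k).1 hk⟩, ?_⟩
          show (w * k * w⁻¹) • w • d = w • k • d
          simp only [smul_smul]; group
        · rintro ⟨⟨k, hk⟩, rfl⟩
          have hk' : w⁻¹ * k * w ∈ M := by
            have := (Subgroup.mem_normalizer_iff.1 (inv_mem (hZM hw)) k).1 hk
            rwa [inv_inv] at this
          refine ⟨(w⁻¹ * k * w) • d, ⟨⟨_, hk'⟩, rfl⟩, ?_⟩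
          show w • (w⁻¹ * k * w) • d = k • w • d
          simp only [smul_smul]; group
      rw [e1, e2] at e3
      exact e3
    have hzp : Subgroup.zpowers w = C.Z :=
      Subgroup.eq_of_le_of_card_ge (Subgroup.zpowers_le.2 hw) (by
        have h1 : orderOf w ∣ p := by
          rw [← C.card_Z, ← Subgroup.orderOf_mk w hw]; exact orderOf_dvd_natCard _
        rcases (Nat.dvd_prime C.H.prime).1 h1 with h | h
        · exact absurd (orderOf_eq_one_iff.1 h) hw1
        · rw [C.card_Z, Nat.card_zpowers, h])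
    have hall : C.S.blk C.a c ⊆ orbit M c := by
      obtain ⟨x, hx, hxc⟩ := C.P_trans c hc
      intro u hu
      rw [← hxc, C.blk_eq hx] at hu
      obtain ⟨v, hv, rfl⟩ := hu
      have hvs : v ∈ stabilizer G (orbit M c) := (hzp.symm.le.trans (Subgroup.zpowers_le.2
        (mem_stabilizer_iff.2 hstab))) hv
      show x • v • C.b ∈ _
      rw [smul_smul, C.comm hx (C.Z_le hv), mul_smul, hxc, ← mem_stabilizer_iff.1 hvs]
      exact smul_mem_smul_set (mem_orbit_self c)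
    apply hp
    have e := Set.Subset.antisymm hO hall
    have hcard : Nat.card (orbit M c) = p := by rw [Nat.card_coe_set_eq, e, C.S.card (Ne.symm hc)]
    rw [← hcard, Nat.card_coe_set_eq, ← index_stabilizer]
    exact Subgroup.index_dvd_card _
  obtain ⟨x, hx, hxc⟩ := C.P_trans c hc
  have h2 : 2 ≤ (orbit M c).ncard :=
    (Set.one_lt_ncard (Set.toFinite _)).2 ⟨m • c, ⟨⟨m, hm⟩, rfl⟩, c, mem_orbit_self c, hne⟩
  let f : C.Z × orbit M c → C.S.blk C.a c := fun u => ⟨(u.1 : G) • (u.2 : Ω),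
    C.K_smul_blk (C.Z_le_K u.1.2) hc (hO u.2.2)⟩
  have hni : ¬ Function.Injective f := by
    intro hi
    have := Nat.card_le_card_of_injective f hi
    rw [Nat.card_prod, C.card_Z, Nat.card_coe_set_eq, Nat.card_coe_set_eq,
      C.S.card (Ne.symm hc)] at this
    have := Nat.mul_le_mul_left p h2
    have := C.H.prime.pos
    omega
  simp only [Function.Injective, not_forall] at hni
  obtain ⟨⟨w, o⟩, ⟨w', o'⟩, he, hne'⟩ := hni
  have he' : (w : G) • (o : Ω) = (w' : G) • (o' : Ω) := congrArg Subtype.val he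
  refine hfull ((w' : G)⁻¹ * w) (mul_mem (inv_mem w'.2) w.2) o o.2
    (by rw [mul_smul, he', inv_smul_smul]; exact o'.2) fun e => hne' ?_
  rw [inv_mul_eq_one] at e
  have ew : w' = w := Subtype.ext e
  subst ew
  have eo : o = o' := Subtype.ext (smul_left_cancel _ he')
  rw [eo]

/-- `K` is faithful on the block of `b`. -/
theorem K_faithful {k : G} (hk : k ∈ C.K) (h : ∀ c ∈ C.B, k • c = c) : k = 1 := by
  let M : Subgroup G := C.K ⊓ fixingSubgroup G C.B
  have hMY : M ≤ C.Y := fun m hm => ⟨hm.1.1, (mem_fixingSubgroup_iff G).1 hm.2 _ (C.S.mem C.hab)⟩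
  have hMb : M = ⊥ := by
    refine C.eq_bot_of_coprime inf_le_left (fun w hw => ?_)
      (fun hd => C.not_dvd (hd.trans (Subgroup.card_dvd_of_le hMY)))
    refine Subgroup.mem_normalizer_fintype (S := (M : Set G)) fun m hm => ?_
    refine ⟨C.K_conj (C.fix_a (C.Z_le hw)) hm.1, (mem_fixingSubgroup_iff G).2 fun c hc => ?_⟩
    have hwc : w⁻¹ • c ∈ C.B := by
      rw [← mem_stabilizer_iff.1 (inv_mem hw.2 : w⁻¹ ∈ stabilizer G C.B)]
      exact smul_mem_smul_set hc
    rw [mul_smul, mul_smul, (mem_fixingSubgroup_iff G).1 hm.2 _ hwc, smul_inv_smul]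
  have : k ∈ M := ⟨hk, (mem_fixingSubgroup_iff G).2 h⟩
  rw [hMb, Subgroup.mem_bot] at this
  exact this

theorem fix_chart {g : G} (hgb : g • C.b = C.b) (hc : g * C.z = C.z * g) {c : Ω} (h : c ∈ C.B) :
    g • c = c := by
  obtain ⟨i, rfl⟩ := C.exists_chart h
  rw [smul_smul, (Commute.pow_right hc i.val).eq, mul_smul, hgb]

theorem K_centralizer {k : G} (hk : k ∈ C.K) (hc : k * C.z = C.z * k) : k ∈ C.Z := by
  obtain ⟨i, hi⟩ := C.K_smul_b hk
  have hzi : C.z ^ i.val ∈ C.Z := pow_mem C.z_mem _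
  have h1 : (C.z ^ i.val)⁻¹ * k = 1 := by
    refine C.K_faithful (mul_mem (inv_mem (C.Z_le_K hzi)) hk) fun c h => C.fix_chart ?_ ?_ h
    · rw [mul_smul, ← hi, inv_smul_smul]
    · exact Commute.mul_left ((Commute.refl C.z).pow_left _).inv_left hc
  rw [inv_mul_eq_one] at h1
  exact h1 ▸ hzi

theorem stab_B {g : G} (hga : g • C.a = C.a) (hgB : g • C.B = C.B) :
    ∃ w ∈ C.Z, ∃ y ∈ C.Y, g = w * y := by
  have hgb : g • C.b ∈ C.B := hgB ▸ smul_mem_smul_set (C.S.mem C.hab)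
  obtain ⟨w, hw, hwb⟩ := C.exists_Z hgb
  refine ⟨w, hw, w⁻¹ * g, ⟨?_, ?_⟩, by group⟩
  · exact mem_stabilizer_iff.2 (by rw [mul_smul, hga, inv_smul_eq_iff, C.fix_a (C.Z_le hw)])
  · exact mem_stabilizer_iff.2 (by rw [mul_smul, ← hwb, inv_smul_smul])

theorem Y_B {y : G} (hy : y ∈ C.Y) : y • C.B = C.B := by
  rw [C.smul_B (mem_pair.1 hy).1, (mem_pair.1 hy).2]

theorem Y_D {y : G} (hy : y ∈ C.Y) : y • C.D = C.D := by
  rw [D, smul_set_sdiff, smul_set_singleton, C.S.smul, (mem_pair.1 hy).1, (mem_pair.1 hy).2]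

theorem card_D : C.D.ncard = p - 1 := by
  rw [Set.ncard_sdiff_singleton_of_mem (C.S.mem C.hab.symm), C.S.card C.hab.symm]

theorem card_B_sdiff : (C.B \ {C.b}).ncard = p - 1 := by
  rw [Set.ncard_sdiff_singleton_of_mem (C.S.mem C.hab), C.S.card C.hab]

theorem D_ne {d : Ω} (hd : d ∈ C.D) : d ≠ C.a ∧ d ≠ C.b :=
  ⟨hd.2, fun e => C.S.notMem C.hab.symm (e ▸ hd.1)⟩

/-- An element exchanging `a` and `b` normalises the pair stabiliser and maps `B \ {b}` to `D`. -/
theorem exists_swap' : ∃ g : G, g • C.a = C.b ∧ g • C.b = C.a ∧ g • (C.B \ {C.b}) = C.D ∧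
    (∀ y ∈ C.Y, g * y * g⁻¹ ∈ C.Y) ∧ ∀ y ∈ C.Y, g⁻¹ * y * g ∈ C.Y := by
  obtain ⟨g, h1, h2⟩ := exists_swap C.H C.hab
  refine ⟨g, h1, h2, ?_, fun y hy => mem_pair.2 ⟨?_, ?_⟩, fun y hy => mem_pair.2 ⟨?_, ?_⟩⟩
  · rw [smul_set_sdiff, smul_set_singleton, C.S.smul, h1, h2]
  · rw [mul_smul, mul_smul, inv_smul_eq_iff.2 h2.symm, (mem_pair.1 hy).2, h2]
  · rw [mul_smul, mul_smul, inv_smul_eq_iff.2 h1.symm, (mem_pair.1 hy).1, h1]
  · rw [mul_smul, mul_smul, h1, (mem_pair.1 hy).2, inv_smul_eq_iff.2 h1.symm]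
  · rw [mul_smul, mul_smul, h2, (mem_pair.1 hy).1, inv_smul_eq_iff.2 h2.symm]

end Ctx

end CfsgLib.DeltaSq
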