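/-
Doubly transitive groups of degree `p² + 1` with an imprimitive point stabiliser: the case of a
doubly transitive action of the block kernel on each block.
-/
import Cfsg.Agent.DeltaSq.Setup
import Cfsg.Agent.DeltaSq.Circulant
import Cfsg.Agent.Perm.Muller
import Mathlib.GroupTheory.Transfer

set_option autoImplicit false
set_option linter.style.haveILetI false
set_option linter.unusedSectionVars false

namespace CfsgLib.DeltaSq

open MulAction Set
open scoped Pointwise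

theorem pow_smul_set_eq {G α : Type*} [Group G] [MulAction G α] {g : G} {s : Set α}
    (h : g • s = s) (n : ℕ) : g ^ n • s = s :=
  mem_stabilizer_iff.1 (pow_mem (mem_stabilizer_iff.2 h) n)

namespace Ctx

variable {G Ω : Type*} [Group G] [Finite G] [MulAction G Ω] [FaithfulSMul G Ω] {p : ℕ}
  (C : Ctx G Ω p)

theorem chart_mem (i : ZMod p) : C.z ^ i.val • C.b ∈ C.B :=
  (C.smul_b_mem (C.Z_le (pow_mem C.z_mem _))).2 (pow_mem C.z_mem _)

/-- The action of the kernel on the block of `b`, in coordinates. -/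
noncomputable def pi (k : C.K) (i : ZMod p) : ZMod p :=
  (C.exists_chart (C.K_smul_blk k.2 C.hab.symm (C.chart_mem i))).choose

theorem pi_spec (k : C.K) (i : ZMod p) :
    C.z ^ (C.pi k i).val • C.b = (k : G) • C.z ^ i.val • C.b :=
  (C.exists_chart (C.K_smul_blk k.2 C.hab.symm (C.chart_mem i))).choose_spec

theorem two_trans (hp : ∃ k ∈ C.K, k * C.z * k⁻¹ ∉ C.Z) :
    ∀ c₁ c₂ d₁ d₂ : Ω, c₁ ∈ C.B → c₂ ∈ C.B → d₁ ∈ C.B → d₂ ∈ C.B → c₁ ≠ c₂ → d₁ ≠ d₂ →
      ∃ k ∈ C.K, k • c₁ = d₁ ∧ k • c₂ = d₂ := by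
  haveI := C.H.finite
  haveI : Fact p.Prime := ⟨C.H.prime⟩
  let Bs : SubMulAction C.K Ω :=
    { carrier := C.B
      smul_mem' := fun k c hc => C.K_smul_blk k.2 C.hab.symm hc }
  haveI : FaithfulSMul C.K Bs := ⟨fun {k l} h => by
    refine Subtype.ext ?_
    have hh : (l : G)⁻¹ * k = 1 := C.K_faithful (mul_mem (inv_mem l.2) k.2) fun c hc => by
      rw [mul_smul, inv_smul_eq_iff]
      exact congrArg Subtype.val (h ⟨c, hc⟩)
    exact (inv_mul_eq_one.1 hh).symm⟩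
  haveI : IsPretransitive C.K Bs := ⟨fun c d => by
    obtain ⟨v, hv, hvc⟩ := C.exists_Z c.2
    obtain ⟨w, hw, hwd⟩ := C.exists_Z d.2
    refine ⟨⟨w * v⁻¹, mul_mem (C.Z_le_K hw) (inv_mem (C.Z_le_K hv))⟩, Subtype.ext ?_⟩
    show (w * v⁻¹) • (c : Ω) = d
    rw [← hvc, mul_smul, inv_smul_smul, hwd]⟩
  have hcard : Nat.card Bs = p := by
    show Nat.card C.B = p
    rw [Nat.card_coe_set_eq, C.S.card C.hab]
  rcases CfsgLib.Muller.solvable_or_two_transitive (G := C.K) hcard with hs | h2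
  · obtain ⟨k, hk, hkz⟩ := hp
    obtain ⟨A, hAn, hAc, hA⟩ := exists_normal_prime_order (T := C.K) hcard hs
    refine absurd ?_ hkz
    let z' : C.K := ⟨C.z, C.Z_le_K C.z_mem⟩
    have hz' : orderOf z' = p := by
      rw [← Subgroup.orderOf_coe, show ((z' : C.K) : G) = C.z from rfl, C.z_order]
    have hzA : Subgroup.zpowers z' = A := Subgroup.eq_of_le_of_card_ge
      (Subgroup.zpowers_le.2 (hA _ (orderOf_dvd_iff_pow_eq_one.1 hz'.dvd))) (by rw [hAc, Nat.card_zpowers, hz'])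
    have h1 := hAn.conj_mem z' (hzA ▸ Subgroup.mem_zpowers z') ⟨k, hk⟩
    rw [← hzA, Subgroup.mem_zpowers_iff] at h1
    obtain ⟨n, hn⟩ := h1
    have hn' := congrArg Subtype.val hn
    simp only [Subgroup.coe_mul, Subgroup.coe_zpow, InvMemClass.coe_inv, z'] at hn'
    rw [← hn']
    exact zpow_mem C.z_mem n
  · intro c₁ c₂ d₁ d₂ h1 h2' h3 h4 hc hd
    have key : ∀ {u v u' v' : Bs}, u ≠ v → u' ≠ v' → ∃ g : C.K, g • u = u' ∧ g • v = v' :=
      is_two_pretransitive_iff.mp h2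
    obtain ⟨k, e1, e2⟩ := @key (⟨c₁, h1⟩ : Bs) ⟨c₂, h2'⟩ ⟨d₁, h3⟩ ⟨d₂, h4⟩
      (fun e => hc (congrArg Subtype.val e)) (fun e => hd (congrArg Subtype.val e))
    exact ⟨k, k.2, congrArg Subtype.val e1, congrArg Subtype.val e2⟩

theorem card_K : Nat.card C.K = p * Nat.card (C.K ⊓ stabilizer G C.b : Subgroup G) := by
  have h1 : Nat.card (orbit C.K C.b) * Nat.card (stabilizer C.K C.b) = Nat.card C.K := by
    rw [← Nat.card_prod]
    exact Nat.card_congr (orbitProdStabilizerEquivGroup _ _)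
  have h2 : orbit C.K C.b = C.B := by
    refine Set.Subset.antisymm ?_ ?_
    · rintro _ ⟨⟨k, hk⟩, rfl⟩
      exact C.K_smul_blk hk C.hab.symm (C.S.mem C.hab)
    · rw [← C.orbit_Z]
      rintro _ ⟨⟨w, hw⟩, rfl⟩
      exact ⟨⟨w, C.Z_le_K hw⟩, rfl⟩
  have h3 : Nat.card (stabilizer C.K C.b) = Nat.card (C.K ⊓ stabilizer G C.b : Subgroup G) :=
    Nat.card_congr ⟨fun x => ⟨x.1.1, x.1.2, x.2⟩, fun x => ⟨⟨x.1, x.2.1⟩, x.2.2⟩,
      fun x => rfl, fun x => rfl⟩
  rw [← h1, h2, h3, Nat.card_coe_set_eq, C.S.card C.hab]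

theorem Kb_le_Y : C.K ⊓ stabilizer G C.b ≤ C.Y := fun _ hk =>
  ⟨mem_stabilizer_iff.2 hk.1.1, hk.2⟩

theorem factorization_K : (Nat.card C.K).factorization p = 1 := by
  have hnd : ¬ p ∣ Nat.card (C.K ⊓ stabilizer G C.b : Subgroup G) := fun hd =>
    C.not_dvd (hd.trans (Subgroup.card_dvd_of_le C.Kb_le_Y))
  rw [C.card_K, Nat.factorization_mul C.H.prime.ne_zero Nat.card_pos.ne', Finsupp.add_apply,
    C.H.prime.factorization_self, Nat.factorization_eq_zero_of_not_dvd hnd]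

/-- A non-trivial multiplier. -/
theorem exists_multiplier (hp : ∃ k ∈ C.K, k * C.z * k⁻¹ ∉ C.Z) :
    ∃ e ∈ C.K, e • C.b = C.b ∧ ∃ lam : ZMod p, lam ≠ 0 ∧ lam ≠ 1 ∧
      e * C.z * e⁻¹ = C.z ^ lam.val := by
  classical
  haveI : Fact p.Prime := ⟨C.H.prime⟩
  haveI := C.H.finite
  by_contra hno
  have hcomm : ∀ k ∈ C.K, k * C.z * k⁻¹ ∈ C.Z → k * C.z = C.z * k := by
    intro k hk hkz
    obtain ⟨i, hi⟩ := C.K_smul_b hk
    obtain ⟨lam, hlam⟩ := C.exists_pow hkz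
    by_contra hne
    have hzc : Commute C.z ((C.z ^ i.val)⁻¹) := ((Commute.refl C.z).pow_right _).inv_right
    refine hno ⟨(C.z ^ i.val)⁻¹ * k, mul_mem (inv_mem (pow_mem (C.Z_le_K C.z_mem) _)) hk,
      by rw [mul_smul, ← hi, inv_smul_smul], lam, fun e => ?_, fun e => ?_, ?_⟩
    · rw [e, ZMod.val_zero, pow_zero] at hlam
      have h1 : C.z = 1 := conj_eq_one_iff.1 hlam.symm
      have := C.z_order
      rw [h1, orderOf_one] at this
      exact C.H.prime.one_lt.ne this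
    · rw [e, ZMod.val_one, pow_one] at hlam
      exact hne (mul_inv_eq_iff_eq_mul.1 hlam.symm)
    · calc (C.z ^ i.val)⁻¹ * k * C.z * ((C.z ^ i.val)⁻¹ * k)⁻¹
          = (C.z ^ i.val)⁻¹ * (k * C.z * k⁻¹) * C.z ^ i.val := by group
        _ = C.z ^ lam.val := by
          rw [← hlam, ← (((Commute.refl C.z).pow_left lam.val).pow_right i.val).inv_right.eq,
            inv_mul_cancel_right]
  let Zk : Subgroup C.K := C.Z.subgroupOf C.K
  have hZk : Nat.card Zk = p := by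
    rw [Nat.card_congr (Subgroup.subgroupOfEquivOfLe C.Z_le_K).toEquiv, C.card_Z]
  let Q : Sylow p C.K := Sylow.ofCard Zk (by rw [hZk, C.factorization_K, pow_one])
  have hQ : (Q : Subgroup C.K) = Zk := Sylow.coe_ofCard _ _
  have hN : Subgroup.normalizer ((Q : Subgroup C.K) : Set C.K) ≤
      Subgroup.centralizer ((Q : Subgroup C.K) : Set C.K) := by
    rw [hQ]
    intro k hk
    have hz' : (⟨C.z, C.Z_le_K C.z_mem⟩ : C.K) ∈ Zk := Subgroup.mem_subgroupOf.2 C.z_mem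
    have h1 := Subgroup.mem_subgroupOf.1 ((Subgroup.mem_normalizer_iff.1 hk _).1 hz')
    have h2 : Commute (k : G) C.z := hcomm k k.2 h1
    rw [Subgroup.mem_centralizer_iff]
    intro w hw
    obtain ⟨i, hi⟩ := C.exists_pow (Subgroup.mem_subgroupOf.1 hw)
    refine Subtype.ext ?_
    show (w : G) * k = k * w
    rw [← hi]
    exact (h2.pow_right i.val).eq.symm
  let M : Subgroup C.K := (MonoidHom.transferSylow Q hN).ker
  have hc : Subgroup.IsComplement' M (Q : Subgroup C.K) :=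
    MonoidHom.ker_transferSylow_isComplement' Q hN
  have hMc := hc.card_mul_card
  rw [hQ, hZk, C.card_K, mul_comm p] at hMc
  have hM' : Nat.card M = Nat.card (C.K ⊓ stabilizer G C.b : Subgroup G) :=
    Nat.eq_of_mul_eq_mul_right C.H.prime.pos hMc
  have hbot : M.map C.K.subtype = ⊥ := by
    refine C.eq_bot_of_coprime (Subgroup.map_subtype_le _) (fun w hw => ?_) ?_
    · refine Subgroup.mem_normalizer_fintype (S := ((M.map C.K.subtype : Subgroup G) : Set G))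
        fun m hm => ?_
      obtain ⟨m', hm', rfl⟩ := hm
      exact ⟨(⟨w, C.Z_le_K hw⟩ : C.K) * m' * (⟨w, C.Z_le_K hw⟩ : C.K)⁻¹,
        (inferInstance : M.Normal).conj_mem m' hm' _, rfl⟩
    · rw [Nat.card_congr (Subgroup.equivMapOfInjective _ _ C.K.subtype_injective).toEquiv.symm, hM']
      exact fun hd => C.not_dvd (hd.trans (Subgroup.card_dvd_of_le C.Kb_le_Y))
  rw [Subgroup.map_eq_bot_iff_of_injective _ C.K.subtype_injective] at hbot
  rw [hbot, Subgroup.card_bot] at hM'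
  have hKZ : C.Z = C.K := Subgroup.eq_of_le_of_card_ge C.Z_le_K
    (by rw [C.card_K, ← hM', C.card_Z, mul_one])
  obtain ⟨k, hk, hkz⟩ := hp
  rw [← hKZ] at hk
  exact hkz (mul_mem (mul_mem hk C.z_mem) (inv_mem hk))

theorem pow_mem_Z {x : G} (hx : x ∈ C.P) : x ^ p ∈ C.Z := by
  haveI : Fact p.Prime := ⟨C.H.prime⟩
  let Zp : Subgroup C.P := C.Z.subgroupOf C.P
  haveI : Zp.Normal := ⟨fun n hn g => by
    have : g * n * g⁻¹ = n := by
      refine Subtype.ext ?_
      show (g : G) * n * (g : G)⁻¹ = n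
      rw [C.comm g.2 n.2, mul_inv_cancel_right]
    rw [this]; exact hn⟩
  have hidx : Zp.index = p := by
    have h := Zp.card_mul_index
    rw [Nat.card_congr (Subgroup.subgroupOfEquivOfLe C.Z_le).toEquiv, C.card_Z, C.P_card, sq] at h
    exact Nat.eq_of_mul_eq_mul_left C.H.prime.pos h
  exact Subgroup.mem_subgroupOf.1 (hidx ▸ Subgroup.pow_index_mem (H := Zp) (⟨x, hx⟩ : C.P))

/-- `P` is `Z` times the powers of any element outside `Z`. -/
theorem decomp {x : G} (hx : x ∈ C.P) (hxZ : x ∉ C.Z) {u : G} (hu : u ∈ C.P) :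
    ∃ (n : ℕ) (w : G), w ∈ C.Z ∧ x ^ n * w = u := by
  haveI : Fact p.Prime := ⟨C.H.prime⟩
  let Zp : Subgroup C.P := C.Z.subgroupOf C.P
  haveI : Zp.Normal := ⟨fun n hn g => by
    have : g * n * g⁻¹ = n := Subtype.ext (by
      show (g : G) * n * (g : G)⁻¹ = n
      rw [C.comm g.2 n.2, mul_inv_cancel_right])
    rw [this]; exact hn⟩
  have hidx : Nat.card (C.P ⧸ Zp) = p := by
    have h := Zp.card_mul_index
    rw [Nat.card_congr (Subgroup.subgroupOfEquivOfLe C.Z_le).toEquiv, C.card_Z, C.P_card, sq] at h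
    exact Nat.eq_of_mul_eq_mul_left C.H.prime.pos h
  have hne : ((⟨x, hx⟩ : C.P) : C.P ⧸ Zp) ≠ 1 := fun e =>
    hxZ (Subgroup.mem_subgroupOf.1 ((QuotientGroup.eq_one_iff _).1 e))
  have hmem := mem_zpowers_of_prime_card (g' := ((⟨u, hu⟩ : C.P) : C.P ⧸ Zp)) hidx hne
  rw [← mem_powers_iff_mem_zpowers] at hmem
  obtain ⟨n, hn⟩ := hmem
  have hn' : ((⟨x, hx⟩ ^ n : C.P) : C.P ⧸ Zp) = ((⟨u, hu⟩ : C.P) : C.P ⧸ Zp) := hn
  refine ⟨n, (x ^ n)⁻¹ * u, ?_, mul_inv_cancel_left _ _⟩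
  exact Subgroup.mem_subgroupOf.1 (QuotientGroup.eq.1 hn')

theorem false_of_not_normal (hp2 : p ≠ 2) (hp : ∃ k ∈ C.K, k * C.z * k⁻¹ ∉ C.Z) : False := by
  classical
  haveI : Fact p.Prime := ⟨C.H.prime⟩
  haveI := C.H.finite
  have hp3 : 3 ≤ p := by have := C.H.prime.two_le; omega
  have h2t := C.two_trans hp
  have hKb : ∀ c d, c ∈ C.B → d ∈ C.B → c ≠ C.b → d ≠ C.b →
      ∃ k ∈ C.K, k • C.b = C.b ∧ k • c = d := fun c d hc hd hcb hdb =>
    h2t C.b c C.b d (C.S.mem C.hab) hc (C.S.mem C.hab) hd hcb.symm hdb.symm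
  obtain ⟨g, hga, hgb, hgD, hgY, hgY'⟩ := C.exists_swap'
  have hYD : ∀ d ∈ C.D, ∀ d' ∈ C.D, ∃ y ∈ C.Y, y • d = d' := by
    intro d hd d' hd'
    rw [← hgD] at hd hd'
    obtain ⟨c, hc, rfl⟩ := hd
    obtain ⟨c', hc', rfl⟩ := hd'
    obtain ⟨k, hk, hkb, hkc⟩ := hKb c c' hc.1 hc'.1 hc.2 hc'.2
    refine ⟨g * k * g⁻¹, hgY k (C.Kb_le_Y ⟨hk, hkb⟩), ?_⟩
    show (g * k * g⁻¹) • g • c = g • c'
    rw [mul_smul, inv_smul_smul, mul_smul, hkc]
  obtain ⟨c, hc⟩ : C.D.Nonempty := Set.nonempty_of_ncard_ne_zero (by rw [C.card_D]; omega)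
  by_cases hcB : c ∈ C.B
  · refine false_of_orbit C.H C.S C.hab C.Z (fun w hw => C.fix_a (C.Z_le hw)) ?_
    have hsub : C.D ⊆ C.B \ {C.b} := by
      intro d hd
      obtain ⟨y, hy, rfl⟩ := hYD c hc d hd
      refine ⟨?_, (C.D_ne hd).2⟩
      rw [← C.Y_B hy]
      exact smul_mem_smul_set hcB
    have e := Set.eq_of_subset_of_ncard_le hsub (by rw [C.card_D, C.card_B_sdiff])
    rw [C.orbit_Z, show C.S.blk C.b C.a \ {C.a} = _ from e, Set.insert_sdiff_singleton,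
      Set.insert_eq_of_mem (C.S.mem C.hab)]
  obtain ⟨e₀, he, heb, lam, hl0, hl1, hez⟩ := C.exists_multiplier hp
  obtain ⟨x₀, hx₀, hx₀c⟩ := C.P_trans c (C.D_ne hc).1
  -- choose the fixed point of the multiplier in the block of `c`
  have hconj : ∀ (e : G), e * C.z * e⁻¹ = C.z ^ lam.val →
      ∀ j : ZMod p, e * C.z ^ j.val = C.z ^ (lam * j).val * e := by
    intro e h j
    rw [C.z_pow_mul, ← h, conj_pow, inv_mul_cancel_right]
  have hez' : x₀⁻¹ * e₀ * x₀ * C.z * (x₀⁻¹ * e₀ * x₀)⁻¹ = C.z ^ lam.val := by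
    calc x₀⁻¹ * e₀ * x₀ * C.z * (x₀⁻¹ * e₀ * x₀)⁻¹
        = x₀⁻¹ * e₀ * (x₀ * C.z) * x₀⁻¹ * e₀⁻¹ * x₀ := by group
      _ = x₀⁻¹ * (e₀ * C.z * e₀⁻¹) * x₀ := by rw [C.comm hx₀ (C.Z_le C.z_mem)]; group
      _ = C.z ^ lam.val := by
        rw [hez, mul_assoc, C.comm (pow_mem (C.Z_le C.z_mem) _) hx₀, inv_mul_cancel_left]
  obtain ⟨δ, hδ⟩ := C.K_smul_b (C.K_conj' (C.fix_a hx₀) he)
  let j₀ : ZMod p := δ / (1 - lam)
  let x : G := x₀ * C.z ^ j₀.val
  have hx : x ∈ C.P := mul_mem hx₀ (pow_mem (C.Z_le C.z_mem) _)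
  have hxB : x • C.B = C.S.blk C.a c := by
    rw [← hx₀c, ← C.smul_B (C.fix_a hx₀)]
    show (x₀ * C.z ^ j₀.val) • C.B = _
    rw [mul_smul, pow_smul_set_eq (mem_stabilizer_iff.1 C.z_mem.2)]
  have hxeb : e₀ • x • C.b = x • C.b := by
    have h1 : (x₀⁻¹ * e₀ * x₀) • C.z ^ j₀.val • C.b = C.z ^ j₀.val • C.b := by
      rw [smul_smul, hconj _ hez', mul_smul, ← hδ, smul_smul, ← C.z_pow_add]
      congr 2
      congr 1
      have : (1 - lam) ≠ 0 := sub_ne_zero.2 (Ne.symm hl1)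
      simp only [j₀]
      field_simp
      ring
    rw [mul_smul, mul_smul, inv_smul_eq_iff] at h1
    show e₀ • (x₀ * C.z ^ j₀.val) • C.b = (x₀ * C.z ^ j₀.val) • C.b
    rw [mul_smul]
    exact h1
  let Kb : Subgroup G := C.K ⊓ stabilizer G C.b
  have hOD : orbit Kb c ⊆ C.D := by
    rintro _ ⟨⟨k, hk⟩, rfl⟩
    rw [← C.Y_D (C.Kb_le_Y hk)]
    exact smul_mem_smul_set hc
  have hOB : orbit Kb c ⊆ C.S.blk C.a c := by
    rintro _ ⟨⟨k, hk⟩, rfl⟩
    exact C.K_smul_blk hk.1 (C.D_ne hc).1 (C.S.mem (C.D_ne hc).1.symm)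
  have hOinv : ∀ k ∈ Kb, ∀ d, k • d ∈ orbit Kb c ↔ d ∈ orbit Kb c := fun k hk d => by
    rw [← orbit_eq_iff, ← orbit_eq_iff (a := d)]
    constructor <;> intro h <;> rw [← h]
    · exact (orbit_eq_iff.2 (mem_orbit d (⟨k, hk⟩ : Kb))).symm
    · exact orbit_eq_iff.2 (mem_orbit d (⟨k, hk⟩ : Kb))
  let f : ZMod p → ℚ := fun j => if x • C.z ^ j.val • C.b ∈ orbit Kb c then 1 else 0
  obtain ⟨q, hq⟩ := C.exists_pow (C.pow_mem_Z hx)
  let σ : C.K → C.K := fun k => ⟨x⁻¹ * k * x, C.K_conj' (C.fix_a hx) k.2⟩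
  have hσn : ∀ (n : ℕ) (k : C.K), ((σ^[n] k : C.K) : G) = (x ^ n)⁻¹ * k * x ^ n := by
    intro n k
    induction n with
    | zero => simp
    | succ n ih =>
      rw [Function.iterate_succ_apply']
      show x⁻¹ * ((σ^[n] k : C.K) : G) * x = _
      rw [ih, pow_succ]; group
  have hxz : ∀ i : ZMod p, x * C.z ^ i.val = C.z ^ i.val * x := fun i =>
    C.comm hx (pow_mem (C.Z_le C.z_mem) _)
  have hinv : ∀ (k : C.K) (i j : ZMod p), f (C.pi (σ k) j - C.pi k i) = f (j - i) := by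
    intro k i j
    let u := C.pi k i
    let v := C.pi (σ k) j
    let k' : G := (C.z ^ u.val)⁻¹ * k * C.z ^ i.val
    have hk' : k' ∈ Kb := by
      refine Subgroup.mem_inf.2 ⟨mul_mem (mul_mem (inv_mem (pow_mem (C.Z_le_K C.z_mem) _)) k.2)
        (pow_mem (C.Z_le_K C.z_mem) _), mem_stabilizer_iff.2 ?_⟩
      show ((C.z ^ u.val)⁻¹ * k * C.z ^ i.val) • C.b = C.b
      rw [mul_smul, mul_smul, ← C.pi_spec k i, inv_smul_smul]
    have key : k' • x • C.z ^ (j - i).val • C.b = x • C.z ^ (v - u).val • C.b := by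
      have hsw : ∀ (i : ZMod p) (w : Ω), C.z ^ i.val • x • w = x • C.z ^ i.val • w := fun i w => by
        rw [smul_smul, ← hxz, mul_smul]
      apply smul_left_cancel (C.z ^ u.val)
      calc C.z ^ u.val • ((C.z ^ u.val)⁻¹ * k * C.z ^ i.val) • x • C.z ^ (j - i).val • C.b
          = (k : G) • C.z ^ i.val • x • C.z ^ (j - i).val • C.b := by
            rw [mul_smul, mul_smul, smul_inv_smul]
        _ = (k : G) • x • C.z ^ j.val • C.b := by
            rw [hsw, smul_smul (C.z ^ i.val), ← C.z_pow_add, add_sub_cancel]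
        _ = x • ((σ k : C.K) : G) • C.z ^ j.val • C.b := by
            show _ = x • (x⁻¹ * k * x) • C.z ^ j.val • C.b
            have aux : ∀ (y k : G) (w : Ω), k • y • w = y • (y⁻¹ * k * y) • w := fun y k w => by
              rw [mul_smul, mul_smul, smul_inv_smul]
            exact aux x k _
        _ = C.z ^ u.val • x • C.z ^ (v - u).val • C.b := by
            rw [hsw, smul_smul (C.z ^ u.val), ← C.z_pow_add, add_sub_cancel, C.pi_spec]
    show (if x • C.z ^ (v - u).val • C.b ∈ orbit Kb c then (1 : ℚ) else 0) =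
      if x • C.z ^ (j - i).val • C.b ∈ orbit Kb c then 1 else 0
    rw [← key]
    simp only [hOinv _ hk']
  have hσe : (σ ⟨e₀, he⟩ : G) • C.b = C.b := by
    show (x⁻¹ * e₀ * x) • C.b = C.b
    rw [mul_smul, mul_smul, hxeb, inv_smul_smul]
  have hlam : ∀ i, f (lam * i) = f i := by
    intro i
    have key : e₀ • x • C.z ^ i.val • C.b = x • C.z ^ (lam * i).val • C.b := by
      rw [smul_smul x, hxz, mul_smul, smul_smul, hconj _ hez, mul_smul, hxeb, smul_smul, ← hxz,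
        mul_smul]
    show (if x • C.z ^ (lam * i).val • C.b ∈ orbit Kb c then (1 : ℚ) else 0) =
      if x • C.z ^ i.val • C.b ∈ orbit Kb c then 1 else 0
    rw [← key]
    simp only [hOinv e₀ (⟨he, mem_stabilizer_iff.2 heb⟩ : e₀ ∈ Kb)]
  have hpts : ∀ d ∈ C.S.blk C.a c, ∃ i : ZMod p, x • C.z ^ i.val • C.b = d := by
    intro d hd
    rw [← hxB] at hd
    obtain ⟨d', hd', rfl⟩ := hd
    obtain ⟨i, rfl⟩ := C.exists_chart hd'
    exact ⟨i, rfl⟩
  have hne : ∃ i j, f i ≠ f j := by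
    obtain ⟨i, hi⟩ := hpts c (C.S.mem (C.D_ne hc).1.symm)
    have hO : ¬ C.S.blk C.a c ⊆ orbit Kb c := fun hs => by
      have := Set.ncard_le_ncard (hs.trans hOD)
      rw [C.S.card (C.D_ne hc).1.symm, C.card_D] at this
      omega
    obtain ⟨d, hd, hdO⟩ := Set.not_subset.1 hO
    obtain ⟨j, rfl⟩ := hpts d hd
    refine ⟨i, j, ?_⟩
    simp only [f, hi, mem_orbit_self, if_true, if_neg hdO]
    norm_num
  obtain ⟨hq0, hconst, h01⟩ := circulant_trivial (K := C.K) C.pi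
    (fun k => Finite.injective_iff_bijective.1 fun i j hij => by
      have h := congrArg (fun i : ZMod p => C.z ^ i.val • C.b) hij
      simp only [C.pi_spec] at h
      exact C.chart_inj (smul_left_cancel _ h))
    (fun a b c d hab hcd => by
      obtain ⟨k, hk, e1, e2⟩ := h2t _ _ _ _ (C.chart_mem a) (C.chart_mem b) (C.chart_mem c)
        (C.chart_mem d) (fun e => hab (C.chart_inj e)) (fun e => hcd (C.chart_inj e))
      exact ⟨⟨k, hk⟩, C.chart_inj ((C.pi_spec _ a).trans e1), C.chart_inj ((C.pi_spec _ b).trans e2)⟩)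
    σ q
    (fun k j => C.chart_inj (smul_left_cancel (C.z ^ q.val) (by
      conv_lhs => rw [C.pi_spec, hσn, ← hq]
      rw [smul_smul (C.z ^ q.val) (C.z ^ _), ← C.z_pow_add, add_sub_cancel, C.pi_spec,
        add_comm j q, C.z_pow_add, mul_smul, mul_smul, mul_smul, smul_inv_smul])))
    f hinv lam hl0 hl1 hlam hne
  have hxp : x ^ p = 1 := by rw [← hq, hq0, ZMod.val_zero, pow_zero]
  have hpieq : ∀ (k : C.K) i, C.pi (σ k) i = C.pi k i := by
    intro k i
    by_contra hne'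
    have h := hinv k i i
    rw [sub_self, hconst _ (sub_ne_zero.2 hne')] at h
    exact h01 h.symm
  have hcent : ∀ k ∈ C.K, x * k = k * x := by
    intro k hk
    have h1 : ((σ ⟨k, hk⟩ : C.K) : G)⁻¹ * k = 1 := by
      refine C.K_faithful (mul_mem (inv_mem (σ ⟨k, hk⟩).2) hk) fun d hd => ?_
      obtain ⟨i, rfl⟩ := C.exists_chart hd
      rw [mul_smul, inv_smul_eq_iff]
      have e1 := C.pi_spec (σ ⟨k, hk⟩) i
      rw [hpieq] at e1
      exact (C.pi_spec ⟨k, hk⟩ i).symm.trans e1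
    have h2 : x⁻¹ * k * x = k := inv_mul_eq_one.1 h1
    calc x * k = x * (x⁻¹ * k * x) := by rw [h2]
      _ = k * x := by group
  have hxord : orderOf x = p := orderOf_eq_prime hxp fun e => hcB (by
    have hmem : c ∈ x • C.B := hxB.symm ▸ C.S.mem (C.D_ne hc).1.symm
    rwa [e, one_smul] at hmem)
  let W : Subgroup G := Subgroup.zpowers x
  have hWc : Nat.card W = p := by rw [Nat.card_zpowers, hxord]
  have hWP : W ≤ C.P := Subgroup.zpowers_le.2 hx
  have hxZ : x ∉ C.Z := fun h => hcB (by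
    rw [← mem_stabilizer_iff.1 h.2, hxB]
    exact C.S.mem (C.D_ne hc).1.symm)
  -- the fixed points of `Kb`
  have hfix : ∀ d, d ≠ C.a → (∀ k ∈ Kb, k • d = d) → d ∈ orbit W C.b := by
    intro d hda hd
    obtain ⟨u, hu, rfl⟩ := C.P_trans d hda
    have hcomm : ∀ v ∈ W, ∀ k ∈ C.K, v * k = k * v := by
      intro v hv k hk
      obtain ⟨n, rfl⟩ := Subgroup.mem_zpowers_iff.1 hv
      exact (Commute.zpow_left (hcent k hk) n).eq
    obtain ⟨n, w, hw, hvw⟩ := C.decomp hx hxZ hu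
    obtain ⟨v, hv, rfl⟩ : ∃ v ∈ W, v * w = u :=
      ⟨x ^ n, pow_mem (Subgroup.mem_zpowers x) n, hvw⟩
    refine ⟨⟨v, hv⟩, ?_⟩
    show v • C.b = (v * w) • C.b
    rw [mul_smul]
    congr 1
    by_contra hne'
    have hwB : w • C.b ∈ C.B := (C.smul_b_mem (C.Z_le hw)).2 hw
    obtain ⟨d', hd'B, hd'ne⟩ : ∃ d' ∈ C.B \ {C.b}, d' ≠ w • C.b :=
      Set.exists_ne_of_one_lt_ncard (by rw [C.card_B_sdiff]; omega) _
    obtain ⟨k, hk, hkb, hkd⟩ := hKb _ d' hwB hd'B.1 (Ne.symm hne') hd'B.2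
    have h := hd k ⟨hk, hkb⟩
    rw [smul_smul, ← mul_assoc, ← hcomm v hv k hk, mul_assoc, mul_smul, mul_smul, mul_smul] at h
    exact hd'ne (hkd.symm.trans (smul_left_cancel v h))
  have hxfix : ∀ v ∈ W, ∀ k ∈ Kb, k • v • C.b = v • C.b := by
    intro v hv k hk
    obtain ⟨n, rfl⟩ := Subgroup.mem_zpowers_iff.1 hv
    rw [smul_smul, ← (Commute.zpow_left (hcent k hk.1) n).eq, mul_smul, mem_stabilizer_iff.1 hk.2]
  have hOc : f 0 = 1 → c = x • C.b := by
    intro h0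
    obtain ⟨i, hi⟩ := hpts c (C.S.mem (C.D_ne hc).1.symm)
    have hfi : f i = 1 := if_pos (by rw [hi]; exact mem_orbit_self c)
    by_cases hi0 : i = 0
    · subst hi0
      rw [ZMod.val_zero, pow_zero, one_smul] at hi
      exact hi.symm
    · exact absurd (h0.trans ((hconst i hi0).symm.trans hfi).symm) h01
  by_cases h0 : f 0 = 1
  · -- the orbit of `c` is a point
    refine false_of_orbit C.H C.S C.hab W (fun w hw => C.fix_a (hWP hw)) ?_
    have hsub : insert C.b C.D ⊆ orbit W C.b := by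
      rintro d (rfl | hd)
      · exact mem_orbit_self _
      obtain ⟨y, hy, rfl⟩ := hYD c hc d hd
      refine hfix _ (C.D_ne hd).1 fun k hk => ?_
      have hk' : y⁻¹ * k * y ∈ Kb := by
        refine ⟨C.K_conj' (mem_pair.1 hy).1 hk.1, mem_stabilizer_iff.2 ?_⟩
        rw [mul_smul, mul_smul, (mem_pair.1 hy).2, mem_stabilizer_iff.1 hk.2, inv_smul_eq_iff,
          (mem_pair.1 hy).2]
      have h := hxfix x (Subgroup.mem_zpowers x) _ hk'
      rw [← hOc h0, mul_smul, mul_smul, inv_smul_eq_iff] at h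
      exact h
    refine (Set.eq_of_subset_of_ncard_le hsub ?_).symm
    rw [C.card_orbit_b hWP, hWc, Set.ncard_insert_of_notMem (fun h => (C.D_ne h).2 rfl), C.card_D]
    omega
  -- the orbit of `c` is all of `D`
  have hf0 : f 0 = 0 := by
    simp only [f] at h0 ⊢
    split_ifs at h0 ⊢ with h <;> first | exact absurd rfl h0 | rfl
  have hDc : C.D ⊆ C.S.blk C.a c := by
    have hxb : x • C.b ∈ C.S.blk C.a c := hxB ▸ smul_mem_smul_set (C.S.mem C.hab)
    have hall : C.S.blk C.a c \ {x • C.b} ⊆ orbit Kb c := by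
      rintro d ⟨hd, hdne⟩
      obtain ⟨i, rfl⟩ := hpts d hd
      have hi0 : i ≠ 0 := fun e => hdne (by rw [e, ZMod.val_zero, pow_zero, one_smul]; rfl)
      have hfi : f i = 1 := by
        obtain ⟨i', hi'⟩ := hpts c (C.S.mem (C.D_ne hc).1.symm)
        have hfi' : f i' = 1 := if_pos (by rw [hi']; exact mem_orbit_self c)
        have hi'0 : i' ≠ 0 := fun e => by rw [e, hf0] at hfi'; exact zero_ne_one hfi'
        rw [hconst i hi0, ← hconst i' hi'0, hfi']
      simp only [f] at hfi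
      by_contra hn
      rw [if_neg hn] at hfi
      exact zero_ne_one hfi
    have h1 : orbit Kb c = C.D := Set.eq_of_subset_of_ncard_le hOD (by
      have h2 := Set.ncard_le_ncard hall
      rw [Set.ncard_sdiff_singleton_of_mem hxb, C.S.card (C.D_ne hc).1.symm] at h2
      rw [C.card_D]; omega)
    exact h1 ▸ hOB
  have hstab : ∀ y ∈ C.Y, y • x • C.B = x • C.B := by
    intro y hy
    rw [hxB, C.S.smul, (mem_pair.1 hy).1]
    have hyc : y • c ∈ C.D := C.Y_D hy ▸ smul_mem_smul_set hc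
    exact C.S.eq_of_mem (C.D_ne hc).1.symm (hDc hyc)
  let Hs : Subgroup G := stabilizer G C.a ⊓ stabilizer G C.B
  have hnorm : ∀ y ∈ Hs, x⁻¹ * y * x ∈ Hs := by
    intro y hy
    obtain ⟨w, hw, u, hu, rfl⟩ :=
      C.stab_B (mem_stabilizer_iff.1 hy.1) (mem_stabilizer_iff.1 hy.2)
    refine ⟨mem_stabilizer_iff.2 ?_, mem_stabilizer_iff.2 ?_⟩
    · rw [mul_smul, mul_smul, C.fix_a hx, mem_stabilizer_iff.1 hy.1, inv_smul_eq_iff, C.fix_a hx]
    · rw [mul_smul, mul_smul, inv_smul_eq_iff, mul_smul, hstab u hu, smul_smul,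
        C.comm (C.Z_le hw) hx, mul_smul, mem_stabilizer_iff.1 hw.2]
  have hnorm' : ∀ n : ℕ, ∀ y ∈ Hs, (x ^ n)⁻¹ * y * x ^ n ∈ Hs := by
    intro n
    induction n with
    | zero => intro y hy; simpa using hy
    | succ n ih =>
      intro y hy
      have : (x ^ (n + 1))⁻¹ * y * x ^ (n + 1) = x⁻¹ * ((x ^ n)⁻¹ * y * x ^ n) * x := by
        rw [pow_succ]; group
      rw [this]; exact hnorm _ (ih y hy)
  have hYK : ∀ y ∈ C.Y, y ∈ C.K := by
    intro y hy
    refine ⟨(mem_pair.1 hy).1, fun d hd => ?_⟩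
    obtain ⟨u, hu, rfl⟩ := C.P_trans d hd
    obtain ⟨n, w, hw, rfl⟩ := C.decomp hx hxZ hu
    show y • C.S.blk C.a ((x ^ n * w) • C.b) = _
    rw [← C.smul_B (C.fix_a (mul_mem (pow_mem hx n) (C.Z_le hw))), mul_smul,
      mem_stabilizer_iff.1 hw.2]
    have h := mem_stabilizer_iff.1 (hnorm' n y ⟨mem_stabilizer_iff.2 (mem_pair.1 hy).1,
      mem_stabilizer_iff.2 (C.Y_B hy)⟩).2
    rw [mul_smul, mul_smul, inv_smul_eq_iff] at h
    exact h
  let T : Set Ω := insert C.a (orbit W C.b)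
  have hT : {d | ∀ y ∈ C.Y, y • d = d} = T := by
    ext d
    constructor
    · intro hd
      by_cases hda : d = C.a
      · exact Or.inl hda
      · exact Or.inr (hfix d hda fun k hk => hd k (C.Kb_le_Y hk))
    · rintro (rfl | ⟨⟨v, hv⟩, rfl⟩) y hy
      · exact (mem_pair.1 hy).1
      · exact hxfix v hv y ⟨hYK y hy, hy.2⟩
  let L : Ω → Ω → Set Ω := fun u v => {w | ∀ m ∈ stabilizer G u ⊓ stabilizer G v, m • w = w}
  have hLab : L C.a C.b = T := hT
  have hL : ∀ u v, u ≠ v → ∃ h : G, L u v = h • T ∧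
      Nat.card (stabilizer G u ⊓ stabilizer G v : Subgroup G) = Nat.card C.Y := by
    intro u v huv
    obtain ⟨h, hu, hv⟩ := C.H.two C.a C.b u v C.hab huv
    have e : stabilizer G u ⊓ stabilizer G v = C.Y.map (MulAut.conj h).toMonoidHom := by
      ext m
      rw [Subgroup.mem_map_equiv, mem_pair, mem_pair]
      simp only [MulAut.conj_symm_apply, mul_smul, hu, hv, inv_smul_eq_iff]
    refine ⟨h, ?_, ?_⟩
    · rw [← hLab]
      ext w
      rw [Set.mem_smul_set_iff_inv_smul_mem]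
      simp only [L, Set.mem_ofPred_eq, e]
      constructor
      · intro hw m hm
        have := hw _ (Subgroup.mem_map_of_mem _ hm)
        simp only [MulEquiv.coe_toMonoidHom, MulAut.conj_apply, mul_smul] at this
        rw [smul_eq_iff_eq_inv_smul] at this
        exact this
      · rintro hw m ⟨m', hm', rfl⟩
        simp only [MulEquiv.coe_toMonoidHom, MulAut.conj_apply, mul_smul]
        rw [hw m' hm', smul_inv_smul]
    · rw [e]
      exact (Nat.card_congr (Subgroup.equivMapOfInjective _ _ (MulEquiv.injective _)).toEquiv).symm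
  refine false_of_lines C.H L (fun u v _ => ⟨fun m hm => (mem_pair.1 hm).1,
    fun m hm => (mem_pair.1 hm).2⟩) (fun u v huv => ?_) ?_
  · obtain ⟨h, e, -⟩ := hL u v huv
    rw [e, Set.ncard_smul_set, Set.ncard_insert_of_notMem, C.card_orbit_b hWP, hWc]
    rintro ⟨⟨v, hv⟩, hva⟩
    exact C.hab.symm (smul_left_cancel v ((show v • C.b = C.a from hva).trans (C.fix_a (hWP hv)).symm))
  · intro u v c' d' huv hcd hc' hd'
    have hle : stabilizer G u ⊓ stabilizer G v ≤ stabilizer G c' ⊓ stabilizer G d' :=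
      fun m hm => ⟨hc' m hm, hd' m hm⟩
    obtain ⟨-, -, e1⟩ := hL u v huv
    obtain ⟨-, -, e2⟩ := hL c' d' hcd
    have := Subgroup.eq_of_le_of_card_ge hle (by rw [e1, e2])
    simp only [L, this]

end Ctx

end CfsgLib.DeltaSq
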