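/-
Doubly transitive groups of degree `p² + 1` with an imprimitive point stabiliser: the case of a
normal cyclic block kernel.
-/
import Cfsg.Agent.DeltaSq.TwoTrans
import Mathlib.RingTheory.IntegralDomain
import Mathlib.GroupTheory.SpecificGroups.Cyclic

set_option autoImplicit false
set_option linter.style.haveILetI false
set_option linter.unusedSectionVars false

namespace CfsgLib.DeltaSq

open MulAction Set
open scoped Pointwise

/-- A group of order twice an odd number has a subgroup of index two containing all elements of odd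
order. -/
theorem exists_index_two {G : Type*} [Group G] [Finite G] {m : ℕ} (hm : Odd m)
    (hG : Nat.card G = 2 * m) :
    ∃ N : Subgroup G, N ≠ ⊤ ∧ ∀ g : G, Odd (orderOf g) → g ∈ N := by
  haveI : Fact (Nat.Prime 2) := ⟨Nat.prime_two⟩
  let Q : Sylow 2 G := default
  have hQc : Nat.card Q = 2 := by
    rw [Q.card_eq_multiplicity, hG, Nat.factorization_mul two_ne_zero (by
      rintro rfl; simp at hm), Finsupp.add_apply, Nat.prime_two.factorization_self,
      Nat.factorization_eq_zero_of_not_dvd (fun h => by obtain ⟨k, hk⟩ := h; obtain ⟨j, hj⟩ := hm; omega),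
      pow_one]
  haveI : IsCyclic Q := isCyclic_of_prime_card (p := 2) hQc
  have hN : Subgroup.normalizer ((Q : Subgroup G) : Set G) ≤
      Subgroup.centralizer ((Q : Subgroup G) : Set G) :=
    IsCyclic.normalizer_le_centralizer (P := Q)
      (by rw [hG]; exact (Nat.minFac_eq_two_iff _).2 (dvd_mul_right _ _)) inferInstance
  let N := (MonoidHom.transferSylow Q hN).ker
  have hc : Subgroup.IsComplement' N (Q : Subgroup G) :=
    MonoidHom.ker_transferSylow_isComplement' Q hN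
  have hcard := hc.card_mul_card
  have hidx : N.index = 2 := by
    have h := N.card_mul_index
    rw [← hcard] at h
    rw [← hQc]
    exact Nat.eq_of_mul_eq_mul_left Nat.card_pos h
  refine ⟨N, fun e => by rw [e, Subgroup.index_top] at hidx; omega, fun g hg => ?_⟩
  obtain ⟨k, hk⟩ := hg
  have h2 : ∀ x : G, x ^ 2 ∈ N := fun x => hidx ▸ N.pow_index_mem x
  have h1 : g ^ (2 * k + 1) = 1 := hk ▸ pow_orderOf_eq_one g
  rw [pow_succ, pow_mul, mul_eq_one_iff_inv_eq] at h1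
  rw [← h1]
  exact inv_mem (pow_mem (h2 g) k)

namespace Ctx

variable {G Ω : Type*} [Group G] [Finite G] [MulAction G Ω] [FaithfulSMul G Ω] {p : ℕ}
  (C : Ctx G Ω p)

theorem card_stab : Nat.card (stabilizer G C.a) = p ^ 2 * Nat.card C.Y :=
  card_stabilizer C.H C.hab

theorem conj_z (hZ : ∀ k ∈ C.K, k * C.z * k⁻¹ ∈ C.Z) {g : G} (hg : g • C.a = C.a) :
    g * C.z * g⁻¹ ∈ C.Z := by
  haveI : Fact p.Prime := ⟨C.H.prime⟩
  let Zk : Subgroup C.K := C.Z.subgroupOf C.K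
  haveI : Zk.Normal := ⟨fun n hn k => by
    obtain ⟨i, hi⟩ := C.exists_pow (Subgroup.mem_subgroupOf.1 hn)
    refine Subgroup.mem_subgroupOf.2 ?_
    show (k : G) * n * (k : G)⁻¹ ∈ C.Z
    rw [← hi, ← conj_pow]
    exact pow_mem (hZ k k.2) _⟩
  let u : C.K := ⟨g * C.z * g⁻¹, C.K_conj hg (C.Z_le_K C.z_mem)⟩
  have hu : ((u : C.K ⧸ Zk)) ^ p = 1 := by
    rw [← QuotientGroup.mk_pow]
    have : u ^ p = 1 := by
      refine Subtype.ext ?_
      show (g * C.z * g⁻¹) ^ p = 1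
      rw [conj_pow, orderOf_dvd_iff_pow_eq_one.1 C.z_order.dvd, mul_one, mul_inv_cancel]
    rw [this, QuotientGroup.mk_one]
  rcases (Nat.dvd_prime C.H.prime).1 (orderOf_dvd_of_pow_eq_one hu) with h2 | h2
  · exact Subgroup.mem_subgroupOf.1 ((QuotientGroup.eq_one_iff u).1 (orderOf_eq_one_iff.1 h2))
  · exfalso
    have h3 : p ∣ Zk.index := by
      have h5 := orderOf_dvd_natCard (u : C.K ⧸ Zk)
      rw [h2] at h5
      exact h5
    have h4 := Zk.card_mul_index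
    rw [Nat.card_congr (Subgroup.subgroupOfEquivOfLe C.Z_le_K).toEquiv, C.card_Z, C.card_K] at h4
    rw [Nat.eq_of_mul_eq_mul_left C.H.prime.pos h4] at h3
    exact C.not_dvd (h3.trans (Subgroup.card_dvd_of_le C.Kb_le_Y))

theorem conj_pow_mem (hZ : ∀ k ∈ C.K, k * C.z * k⁻¹ ∈ C.Z) {g w : G} (hg : g • C.a = C.a)
    (hw : w ∈ C.Z) : g * w * g⁻¹ ∈ C.Z := by
  obtain ⟨i, rfl⟩ := C.exists_pow hw
  rw [← conj_pow]
  exact pow_mem (C.conj_z hZ hg) _

theorem K_normalizes (hZ : ∀ k ∈ C.K, k * C.z * k⁻¹ ∈ C.Z) {k x : G} (hk : k ∈ C.K) (hx : x ∈ C.P) :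
    k * x * k⁻¹ ∈ C.P := by
  have hu : k * (x * k⁻¹ * x⁻¹) ∈ C.K := mul_mem hk (C.K_conj (C.fix_a hx) (inv_mem hk))
  have hc : k * (x * k⁻¹ * x⁻¹) * C.z = C.z * (k * (x * k⁻¹ * x⁻¹)) := by
    have h1 : k⁻¹ * C.z * k ∈ C.P := by
      have := C.conj_pow_mem hZ (g := k⁻¹) (inv_mem hk : k⁻¹ ∈ C.K).1 C.z_mem
      rw [inv_inv] at this
      exact C.Z_le this
    have h2 : k * x * k⁻¹ * C.z = C.z * (k * x * k⁻¹) := by
      calc k * x * k⁻¹ * C.z = k * (x * (k⁻¹ * C.z * k)) * k⁻¹ := by group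
        _ = k * ((k⁻¹ * C.z * k) * x) * k⁻¹ := by rw [C.comm hx h1]
        _ = C.z * (k * x * k⁻¹) := by group
    have h3 : x⁻¹ * C.z = C.z * x⁻¹ := C.comm (inv_mem hx) (C.Z_le C.z_mem)
    calc k * (x * k⁻¹ * x⁻¹) * C.z = k * x * k⁻¹ * (x⁻¹ * C.z) := by group
      _ = (k * x * k⁻¹ * C.z) * x⁻¹ := by rw [h3]; group
      _ = C.z * (k * x * k⁻¹) * x⁻¹ := by rw [h2]
      _ = C.z * (k * (x * k⁻¹ * x⁻¹)) := by group
  have := mul_mem (C.Z_le (C.K_centralizer hu hc)) hx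
  simpa [mul_assoc] using this

/-- `P` is normal in the stabiliser of `a`. -/
def PNormal : Prop := ∀ g : G, g • C.a = C.a → ∀ x ∈ C.P, g * x * g⁻¹ ∈ C.P

theorem pNormal (hZ : ∀ k ∈ C.K, k * C.z * k⁻¹ ∈ C.Z) : C.PNormal := by
  classical
  haveI : Fact p.Prime := ⟨C.H.prime⟩
  haveI := C.H.finite
  by_contra hnot
  let Blk : SubMulAction (stabilizer G C.a) (Set Ω) :=
    { carrier := {s | ∃ c, c ≠ C.a ∧ s = C.S.blk C.a c}
      smul_mem' := by
        rintro g _ ⟨c, hc, rfl⟩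
        refine ⟨(g : G) • c, C.ne_a g.2 hc, ?_⟩
        show (g : G) • C.S.blk C.a c = _
        rw [C.S.smul, mem_stabilizer_iff.1 g.2] }
  haveI : Finite Blk := Finite.of_injective (fun s : Blk => (s : Set Ω)) Subtype.val_injective
  have hcard : Nat.card Blk = p := by
    let f : {c : Ω // c ≠ C.a} → Blk := fun c => ⟨C.S.blk C.a c, c, c.2, rfl⟩
    have h1 : Nat.card (Σ s : Blk, {c // f c = s}) = p ^ 2 := by
      rw [Nat.card_congr (Equiv.sigmaFiberEquiv f)]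
      show Nat.card ↥({C.a}ᶜ : Set Ω) = _
      rw [Nat.card_coe_set_eq, Set.ncard_compl, Set.ncard_singleton, C.H.card]
      omega
    haveI := Fintype.ofFinite Blk
    rw [Nat.card_sigma] at h1
    have h2 : ∀ s : Blk, Nat.card {c // f c = s} = p := by
      rintro ⟨_, c, hc, rfl⟩
      refine Eq.trans ?_ ((Nat.card_coe_set_eq (C.S.blk C.a c)).trans (C.S.card (Ne.symm hc)))
      refine Nat.card_congr ⟨fun d => ⟨d.1.1, ?_⟩,
        fun d => ⟨⟨d.1, fun e => C.S.notMem (Ne.symm hc) (by have h := d.2; rw [e] at h; exact h)⟩, ?_⟩,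
        fun d => rfl, fun d => rfl⟩
      · have := congrArg Subtype.val d.2
        simp only [f] at this
        exact this.le (C.S.mem d.1.2.symm)
      · exact Subtype.ext (C.S.eq_of_mem (Ne.symm hc) d.2)
    rw [Finset.sum_congr rfl (fun s _ => h2 s), Finset.sum_const, Finset.card_univ,
      ← Nat.card_eq_fintype_card, smul_eq_mul, sq] at h1
    exact Nat.eq_of_mul_eq_mul_right C.H.prime.pos h1
  let φ := MulAction.toPermHom (stabilizer G C.a) Blk
  let T := φ.range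
  haveI : IsPretransitive T Blk := ⟨by
    rintro ⟨_, c, hc, rfl⟩ ⟨_, d, hd, rfl⟩
    obtain ⟨u, hu, rfl⟩ := C.P_trans c hc
    obtain ⟨v, hv, rfl⟩ := C.P_trans d hd
    refine ⟨⟨φ ⟨v * u⁻¹, C.P_le (mul_mem hv (inv_mem hu))⟩, _, rfl⟩, Subtype.ext ?_⟩
    show (v * u⁻¹) • C.S.blk C.a (u • C.b) = C.S.blk C.a (v • C.b)
    rw [C.S.smul, C.fix_a (mul_mem hv (inv_mem hu)), mul_smul, inv_smul_smul]⟩
  have hker : ∀ g : stabilizer G C.a, φ g = 1 → (g : G) ∈ C.K := by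
    intro g hg
    refine ⟨g.2, fun c hc => ?_⟩
    exact congrArg Subtype.val (Equiv.Perm.ext_iff.1 hg ⟨C.S.blk C.a c, c, hc, rfl⟩)
  have hKφ : ∀ g : stabilizer G C.a, (g : G) ∈ C.K → φ g = 1 := by
    intro g hg
    refine Equiv.Perm.ext ?_
    rintro ⟨_, c, hc, rfl⟩
    exact Subtype.ext (hg.2 c hc)
  rcases CfsgLib.Muller.solvable_or_two_transitive (G := T) hcard with hs | h2
  · apply hnot
    obtain ⟨A, -, hAc, hA⟩ := exists_normal_prime_order (T := T) hcard hs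
    obtain ⟨x, hx, hxZ⟩ : ∃ x ∈ C.P, x ∉ C.Z := by
      by_contra hh
      push Not at hh
      have h := Nat.le_of_dvd Nat.card_pos (Subgroup.card_dvd_of_le (fun x hx => hh x hx : C.P ≤ C.Z))
      rw [C.P_card, C.card_Z, sq] at h
      have := C.H.prime.two_le
      nlinarith
    let ψ : stabilizer G C.a → T := fun g => ⟨φ g, g, rfl⟩
    have hψ : ∀ u (hu : u ∈ C.P), ψ ⟨u, C.P_le hu⟩ ^ p = 1 := fun u hu => Subtype.ext (by
      show φ ⟨u, C.P_le hu⟩ ^ p = 1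
      rw [← map_pow]
      exact hKφ _ (C.Z_le_K (C.pow_mem_Z hu)))
    have hψx : ψ ⟨x, C.P_le hx⟩ ≠ 1 := fun e => hxZ (by
      have h := (hker ⟨x, C.P_le hx⟩ (congrArg Subtype.val e)).2 C.b C.hab.symm
      exact ⟨hx, mem_stabilizer_iff.2 h⟩)
    have hAx : A = Subgroup.zpowers (ψ ⟨x, C.P_le hx⟩) := (Subgroup.eq_of_le_of_card_ge
      (Subgroup.zpowers_le.2 (hA _ (hψ x hx))) (by
        rw [hAc, Nat.card_zpowers, orderOf_eq_prime (hψ x hx) hψx])).symm
    intro g hg y hy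
    let M : Subgroup G := C.P ⊔ C.K
    have hMN : M ≤ Subgroup.normalizer (C.P : Set G) := by
      refine sup_le Subgroup.le_normalizer fun k hk => ?_
      exact Subgroup.mem_normalizer_fintype (S := (C.P : Set G)) fun u hu => C.K_normalizes hZ hk hu
    have hmem : ∀ u ∈ C.P, g * u * g⁻¹ ∈ M := by
      intro u hu
      let t : stabilizer G C.a := ⟨g, hg⟩ * ⟨u, C.P_le hu⟩ * (⟨g, hg⟩ : stabilizer G C.a)⁻¹
      have ht : ψ t ∈ A := hA _ (Subtype.ext (by
        show φ t ^ p = 1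
        simp only [t, map_mul, map_inv, conj_pow]
        rw [← map_pow, hKφ (⟨u, C.P_le hu⟩ ^ p) (C.Z_le_K (C.pow_mem_Z hu)), mul_one, mul_inv_cancel]))
      rw [hAx, ← mem_powers_iff_mem_zpowers] at ht
      obtain ⟨n, hn⟩ := ht
      have hk : φ ((⟨x, C.P_le hx⟩ ^ n : stabilizer G C.a)⁻¹ * t) = 1 := by
        rw [map_mul, map_inv, map_pow]
        have := congrArg Subtype.val hn
        simp only [ψ, SubmonoidClass.coe_pow] at this
        rw [this, inv_mul_cancel]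
      have := mul_mem (Subgroup.mem_sup_left (T := C.K) (pow_mem hx n))
        (Subgroup.mem_sup_right (S := C.P) (hker _ hk))
      simpa [t] using this
    let P' : Subgroup G := C.P.map (MulAut.conj g).toMonoidHom
    have hP' : IsPGroup p P' :=
      (IsPGroup.of_card C.P_card).map _
    have hP'M : P' ≤ Subgroup.normalizer (C.P : Set G) := by
      rintro _ ⟨u, hu, rfl⟩
      exact hMN (hmem u hu)
    have hsup : IsPGroup p ↥(P' ⊔ C.P : Subgroup G) :=
      hP'.to_sup_of_normal_right' (IsPGroup.of_card C.P_card) hP'M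
    have hle : P' ⊔ C.P ≤ stabilizer G C.a := by
      refine sup_le ?_ C.P_le
      rintro _ ⟨u, hu, rfl⟩
      exact mul_mem (mul_mem hg (C.P_le hu)) (inv_mem (show g ∈ stabilizer G C.a from hg))
    obtain ⟨j, hj⟩ := hsup.exists_card_eq
    have hj2 : j ≤ 2 := by
      have h1 : p ^ j ∣ p ^ 2 * Nat.card C.Y := by
        rw [← hj, ← C.card_stab]; exact Subgroup.card_dvd_of_le hle
      have h2 : (p ^ 2 * Nat.card C.Y).factorization p = 2 := by
        rw [Nat.factorization_mul (pow_ne_zero _ C.H.prime.ne_zero) Nat.card_pos.ne',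
          Finsupp.add_apply, C.H.prime.factorization_pow, Finsupp.single_eq_same,
          Nat.factorization_eq_zero_of_not_dvd C.not_dvd]
      rw [← h2]
      exact (C.H.prime.pow_dvd_iff_le_factorization
        (mul_ne_zero (pow_ne_zero _ C.H.prime.ne_zero) Nat.card_pos.ne')).1 h1
    have heq : C.P = P' ⊔ C.P := Subgroup.eq_of_le_of_card_ge le_sup_right
      (by rw [hj, C.P_card]; exact Nat.pow_le_pow_right C.H.prime.pos hj2)
    rw [heq]
    exact Subgroup.mem_sup_left ⟨y, hy, rfl⟩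
  -- doubly transitive on the blocks
  have key : ∀ {s t s' t' : Blk}, s ≠ t → s' ≠ t' → ∃ g : T, g • s = s' ∧ g • t = t' :=
    is_two_pretransitive_iff.mp h2
  have hY : ∀ c d, c ≠ C.a → d ≠ C.a → c ∉ C.B → d ∉ C.B →
      ∃ y ∈ C.Y, y • C.S.blk C.a c = C.S.blk C.a d := by
    intro c d hc hd hcB hdB
    let B0 : Blk := ⟨C.B, C.b, C.hab.symm, rfl⟩
    obtain ⟨⟨_, g, rfl⟩, e1, e2⟩ := key (s := B0) (s' := B0)
      (t := ⟨C.S.blk C.a c, c, hc, rfl⟩) (t' := ⟨C.S.blk C.a d, d, hd, rfl⟩)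
      (fun e => hcB (by
        have h : C.B = C.S.blk C.a c := congrArg Subtype.val e
        rw [h]; exact C.S.mem hc.symm))
      (fun e => hdB (by
        have h : C.B = C.S.blk C.a d := congrArg Subtype.val e
        rw [h]; exact C.S.mem hd.symm))
    have e1' : (g : G) • C.B = C.B := congrArg Subtype.val e1
    have e2' : (g : G) • C.S.blk C.a c = C.S.blk C.a d := congrArg Subtype.val e2
    obtain ⟨w, hw, y, hy, hgw⟩ := C.stab_B g.2 e1'
    refine ⟨y, hy, ?_⟩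
    rw [hgw, mul_smul, ← eq_inv_smul_iff] at e2'
    rw [e2']
    exact (inv_mem (C.Z_le_K hw) : w⁻¹ ∈ C.K).2 d hd
  by_cases hall : ∀ d ∈ C.D, d ∈ C.B
  · refine false_of_orbit C.H C.S C.hab C.Z (fun w hw => C.fix_a (C.Z_le hw)) ?_
    have hsub : C.D ⊆ C.B \ {C.b} := fun d hd => ⟨hall d hd, (C.D_ne hd).2⟩
    have e := Set.eq_of_subset_of_ncard_le hsub (by rw [C.card_D, C.card_B_sdiff])
    rw [C.orbit_Z, show C.S.blk C.b C.a \ {C.a} = _ from e, Set.insert_sdiff_singleton,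
      Set.insert_eq_of_mem (C.S.mem C.hab)]
  push Not at hall
  obtain ⟨c, hc, hcB⟩ := hall
  obtain ⟨g, hga, hgb, hgD, hgY, hgY'⟩ := C.exists_swap'
  have hB : ∀ y₁ ∈ C.Y, ∀ y₂ ∈ C.Y, ∀ d ∈ C.B,
      (y₁ * y₂ * y₁⁻¹ * y₂⁻¹) • d = d := by
    intro y₁ h1 y₂ h2' d hd
    refine C.fix_chart ?_ ?_ hd
    · exact (mem_pair.1 (mul_mem (mul_mem (mul_mem h1 h2') (inv_mem h1)) (inv_mem h2') :
        y₁ * y₂ * y₁⁻¹ * y₂⁻¹ ∈ C.Y)).2
    have hfa : ∀ y ∈ C.Y, y • C.a = C.a := fun y hy => (mem_pair.1 hy).1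
    obtain ⟨i, hi⟩ := C.exists_pow (C.conj_z hZ (hfa _ h1))
    obtain ⟨j, hj⟩ := C.exists_pow (C.conj_z hZ (hfa _ h2'))
    have e12 : y₁ * y₂ * C.z = C.z ^ (j * i).val * (y₁ * y₂) := by
      rw [mul_comm j i, C.z_pow_mul, hi, conj_pow, hj]; group
    have e21 : y₂ * y₁ * C.z = C.z ^ (j * i).val * (y₂ * y₁) := by
      rw [C.z_pow_mul, hj, conj_pow, hi]; group
    have hcomm : (y₁ * y₂) * C.z * (y₁ * y₂)⁻¹ = (y₂ * y₁) * C.z * (y₂ * y₁)⁻¹ := by
      rw [e12, e21, mul_inv_cancel_right, mul_inv_cancel_right]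
    calc y₁ * y₂ * y₁⁻¹ * y₂⁻¹ * C.z
        = y₁ * y₂ * ((y₂ * y₁)⁻¹ * C.z * (y₂ * y₁)) * (y₂ * y₁)⁻¹ := by group
      _ = (y₁ * y₂) * ((y₂ * y₁)⁻¹ * C.z * (y₂ * y₁)) * (y₁ * y₂)⁻¹ * (y₁ * y₂) * (y₂ * y₁)⁻¹ := by
          group
      _ = C.z * (y₁ * y₂ * y₁⁻¹ * y₂⁻¹) := by
        obtain ⟨k, hk⟩ := C.exists_pow (C.conj_z hZ (g := (y₂ * y₁)⁻¹)
          (hfa _ (inv_mem (mul_mem h2' h1))))
        rw [inv_inv] at hk
        rw [← hk, ← conj_pow, hcomm, conj_pow, hk]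
        group
  have hD : ∀ d, d ≠ C.a → d ∉ C.B → ∃ d' ∈ C.D, d' ∈ C.S.blk C.a d := by
    intro d hd hdB
    obtain ⟨y, hy, hye⟩ := hY c d (C.D_ne hc).1 hd hcB hdB
    exact ⟨y • c, C.Y_D hy ▸ smul_mem_smul_set hc,
      hye ▸ smul_mem_smul_set (C.S.mem (C.D_ne hc).1.symm)⟩
  have hcomm : ∀ y₁ ∈ C.Y, ∀ y₂ ∈ C.Y, y₁ * y₂ = y₂ * y₁ := by
    intro y₁ h1 y₂ h2'
    let u := y₁ * y₂ * y₁⁻¹ * y₂⁻¹
    have hua : u • C.a = C.a := (mem_pair.1 (mul_mem (mul_mem (mul_mem h1 h2') (inv_mem h1))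
      (inv_mem h2') : u ∈ C.Y)).1
    have huB := hB y₁ h1 y₂ h2'
    have huD : ∀ d ∈ C.D, u • d = d := by
      intro d hd
      rw [← hgD] at hd
      obtain ⟨d₀, hd₀, rfl⟩ := hd
      have := hB _ (hgY' _ h1) _ (hgY' _ h2') d₀ hd₀.1
      have e : g⁻¹ * y₁ * g * (g⁻¹ * y₂ * g) * (g⁻¹ * y₁ * g)⁻¹ * (g⁻¹ * y₂ * g)⁻¹ =
          g⁻¹ * u * g := by simp only [u]; group
      rw [e, mul_smul, mul_smul, inv_smul_eq_iff] at this
      exact this
    have huK : u ∈ C.K := by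
      refine ⟨hua, fun d hd => ?_⟩
      by_cases hdB : d ∈ C.B
      · rw [C.S.eq_of_mem C.hab hdB, C.S.smul, hua, huB C.b (C.S.mem C.hab)]
      · obtain ⟨d', hd', hd''⟩ := hD d hd hdB
        rw [← C.S.eq_of_mem hd.symm hd'', C.S.smul, hua, huD d' hd']
    have hu1 : u = 1 := C.K_faithful huK huB
    calc y₁ * y₂ = u * (y₂ * y₁) := by simp only [u]; group
      _ = y₂ * y₁ := by rw [hu1, one_mul]
  have hKB : ∀ d, d ≠ C.a → d ∈ C.B → C.S.blk C.a d = C.B := fun d _ h => C.S.eq_of_mem C.hab h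
  -- count
  let U0 : Set Ω := C.S.blk C.a c
  have horb : orbit C.Y U0 = {s | ∃ d, d ≠ C.a ∧ s = C.S.blk C.a d} \ {C.B} := by
    ext s
    constructor
    · rintro ⟨⟨y, hy⟩, rfl⟩
      refine ⟨⟨y • c, C.ne_a (mem_pair.1 hy).1 (C.D_ne hc).1, ?_⟩, fun e => hcB ?_⟩
      · show y • C.S.blk C.a c = _
        rw [C.S.smul, (mem_pair.1 hy).1]
      · have e' : y • U0 = C.B := e
        rw [← C.Y_B hy, smul_left_cancel_iff] at e'
        rw [← e']; exact C.S.mem (C.D_ne hc).1.symm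
    · rintro ⟨⟨d, hd, rfl⟩, hne⟩
      obtain ⟨y, hy, hye⟩ := hY c d (C.D_ne hc).1 hd hcB fun h => hne (hKB d hd h)
      exact ⟨⟨y, hy⟩, hye⟩
  have horbc : (orbit C.Y U0).ncard = p - 1 := by
    rw [horb, Set.ncard_sdiff_singleton_of_mem
      (show C.B ∈ {s : Set Ω | ∃ d, d ≠ C.a ∧ s = C.S.blk C.a d} from ⟨C.b, C.hab.symm, rfl⟩)]
    exact congrArg (· - 1) ((Nat.card_coe_set_eq _).symm.trans hcard)
  have hst : Nat.card (stabilizer C.Y U0) = Nat.card (C.K ⊓ stabilizer G C.b : Subgroup G) := by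
    refine Nat.card_congr ⟨fun y => ⟨y.1.1, ⟨⟨(mem_pair.1 y.1.2).1, fun d hd => ?_⟩, y.1.2.2⟩⟩,
      fun k => ⟨⟨k.1, C.Kb_le_Y k.2⟩, k.2.1.2 c (C.D_ne hc).1⟩, fun y => rfl, fun k => rfl⟩
    by_cases hdB : d ∈ C.B
    · rw [hKB d hd hdB]; exact C.Y_B y.1.2
    · obtain ⟨y', hy', hye⟩ := hY c d (C.D_ne hc).1 hd hcB hdB
      rw [← hye, smul_smul, hcomm _ y.1.2 _ hy', mul_smul]
      exact congrArg (y' • ·) y.2
  have hYc : (p - 1) * Nat.card (C.K ⊓ stabilizer G C.b : Subgroup G) = Nat.card C.Y := by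
    rw [← horbc, ← hst, ← Nat.card_coe_set_eq, ← Nat.card_prod]
    exact Nat.card_congr (orbitProdStabilizerEquivGroup _ _)
  let Ga := stabilizer G C.a
  let Pa : Subgroup Ga := C.P.subgroupOf Ga
  have hPa : Nat.card Pa = p ^ 2 := by
    rw [Nat.card_congr (Subgroup.subgroupOfEquivOfLe C.P_le).toEquiv, C.P_card]
  let Q : Sylow p Ga := Sylow.ofCard Pa (by
    rw [hPa, C.card_stab, Nat.factorization_mul (pow_ne_zero _ C.H.prime.ne_zero) Nat.card_pos.ne',
      Finsupp.add_apply, C.H.prime.factorization_pow, Finsupp.single_eq_same,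
      Nat.factorization_eq_zero_of_not_dvd C.not_dvd])
  have hQ : (Q : Subgroup Ga) = Pa := Sylow.coe_ofCard _ _
  let N := Subgroup.normalizer ((Q : Subgroup Ga) : Set Ga)
  have hKbN : (C.K ⊓ stabilizer G C.b).subgroupOf Ga ≤ N := fun k hk =>
    Subgroup.mem_normalizer_fintype (S := ((Q : Subgroup Ga) : Set Ga)) fun u hu => by
      rw [hQ] at hu ⊢
      exact Subgroup.mem_subgroupOf.2
        (C.K_normalizes hZ (Subgroup.mem_subgroupOf.1 hk).1 (Subgroup.mem_subgroupOf.1 hu))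
  have hdvd : p ^ 2 * Nat.card (C.K ⊓ stabilizer G C.b : Subgroup G) ∣ Nat.card N := by
    have hle : C.K ⊓ stabilizer G C.b ≤ Ga := fun k hk => hk.1.1
    refine Nat.Coprime.mul_dvd_of_dvd_of_dvd (Nat.Coprime.pow_left 2
      ((C.H.prime.coprime_iff_not_dvd).2 fun h => C.not_dvd
        (h.trans (Subgroup.card_dvd_of_le C.Kb_le_Y)))) ?_ ?_
    · rw [← hPa, ← hQ]; exact Subgroup.card_dvd_of_le Subgroup.le_normalizer
    · rw [← Nat.card_congr (Subgroup.subgroupOfEquivOfLe hle).toEquiv]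
      exact Subgroup.card_dvd_of_le hKbN
  have hidx : Nat.card (Sylow p Ga) = 1 := by
    have h1 := card_sylow_modEq_one p Ga
    have h2 : Nat.card (Sylow p Ga) ∣ p - 1 := by
      rw [Sylow.card_eq_index_normalizer Q]
      obtain ⟨k, hk⟩ := hdvd
      have h := N.card_mul_index
      rw [hk, C.card_stab, ← hYc] at h
      refine Dvd.intro_left k (Nat.eq_of_mul_eq_mul_left
        (mul_pos (pow_pos C.H.prime.pos 2) (Nat.card_pos (α := (C.K ⊓ stabilizer G C.b : Subgroup G)))) ?_)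
      rw [← mul_assoc]; refine Eq.trans h ?_; ring
    have hlt : Nat.card (Sylow p Ga) < p := by
      have := Nat.le_of_dvd (by have := C.H.prime.two_le; omega) h2
      have := C.H.prime.pos
      omega
    have := Nat.ModEq.eq_of_lt_of_lt h1 hlt C.H.prime.one_lt
    exact this
  apply hnot
  intro y hy u hu
  haveI : Subsingleton (Sylow p Ga) := Finite.card_le_one_iff_subsingleton.1 hidx.le
  have hn : (Q : Subgroup Ga).Normal := Sylow.normal_of_subsingleton Q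
  rw [hQ] at hn
  exact Subgroup.mem_subgroupOf.1
    (hn.conj_mem ⟨u, C.P_le hu⟩ (Subgroup.mem_subgroupOf.2 hu) ⟨y, hy⟩)

end Ctx

end CfsgLib.DeltaSq
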