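/-
Doubly transitive groups of degree `p² + 1` are doubly primitive, apart from the group of order 20.
-/
import Cfsg.Agent.DeltaSq.Normal

set_option autoImplicit false
set_option linter.style.haveILetI false
set_option linter.unusedSectionVars false

namespace CfsgLib.DeltaSq

open MulAction Set
open scoped Pointwise

/-- A set of elements of order dividing `d` transported by conjugation. -/
theorem card_torsion_conj {G : Type*} [Group G] {H H' : Subgroup G} (g : G)
    (h : H' = H.map (MulAut.conj g).toMonoidHom) (d : ℕ) :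
    {m : G | m ∈ H' ∧ m ^ d = 1}.ncard = {m : G | m ∈ H ∧ m ^ d = 1}.ncard := by
  have : {m : G | m ∈ H' ∧ m ^ d = 1} =
      (MulAut.conj g) '' {m : G | m ∈ H ∧ m ^ d = 1} := by
    subst h
    ext m
    constructor
    · rintro ⟨⟨m', hm', rfl⟩, hd⟩
      refine ⟨m', ⟨hm', ?_⟩, rfl⟩
      rw [MulEquiv.coe_toMonoidHom, ← map_pow, map_eq_one_iff _ (MulEquiv.injective _)] at hd
      exact hd
    · rintro ⟨m', ⟨hm', hd⟩, rfl⟩
      exact ⟨⟨m', hm', rfl⟩, by rw [← map_pow, hd, map_one]⟩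
  rw [this, Set.ncard_image_of_injective _ (MulEquiv.injective _)]

namespace Ctx

variable {G Ω : Type*} [Group G] [Finite G] [MulAction G Ω] [FaithfulSMul G Ω] {p : ℕ}
  (C : Ctx G Ω p)

theorem fix_iff (hPn : C.PNormal) {y x : G} (hy : y ∈ C.Y) (hx : x ∈ C.P) :
    y • x • C.b = x • C.b ↔ y * x = x * y := by
  have hy' := mem_pair.1 hy
  constructor
  · intro h
    have hc : y * x * y⁻¹ ∈ C.P := hPn y hy'.1 x hx
    have e : (y * x * y⁻¹) • C.b = x • C.b := by
      rw [mul_smul, mul_smul, inv_smul_eq_iff.2 hy'.2.symm]; exact h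
    have h1 := C.P_free (x⁻¹ * (y * x * y⁻¹)) (mul_mem (inv_mem hx) hc)
      (by rw [mul_smul, e, inv_smul_smul])
    rw [inv_mul_eq_one, eq_mul_inv_iff_mul_eq] at h1
    exact h1.symm
  · intro h
    rw [smul_smul, h, mul_smul, hy'.2]

/-- The centraliser in `P` of an element. -/
def W (y : G) : Subgroup G := C.P ⊓ Subgroup.centralizer {y}

theorem mem_W {y x : G} : x ∈ C.W y ↔ x ∈ C.P ∧ y * x = x * y := by
  simp only [W, Subgroup.mem_inf, Subgroup.mem_centralizer_iff, Set.mem_singleton_iff, forall_eq]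

theorem W_le (y : G) : C.W y ≤ C.P := inf_le_left

theorem fix_eq (hPn : C.PNormal) {y : G} (hy : y ∈ C.Y) :
    {c | y • c = c} = insert C.a (orbit (C.W y) C.b) := by
  ext c
  constructor
  · intro hc
    by_cases hca : c = C.a
    · exact Or.inl hca
    · obtain ⟨x, hx, rfl⟩ := C.P_trans c hca
      exact Or.inr ⟨⟨x, C.mem_W.2 ⟨hx, (C.fix_iff hPn hy hx).1 hc⟩⟩, rfl⟩
  · rintro (rfl | ⟨⟨x, hx⟩, rfl⟩)
    · exact (mem_pair.1 hy).1
    · obtain ⟨hx, hxy⟩ := C.mem_W.1 hx
      exact (C.fix_iff hPn hy hx).2 hxy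

theorem card_W (hPn : C.PNormal) {y : G} (hy : y ∈ C.Y) (hy1 : y ≠ 1) {c : Ω}
    (hc : y • c = c) (hca : c ≠ C.a) (hcb : c ≠ C.b) : Nat.card (C.W y) = p := by
  obtain ⟨k, hk, hk'⟩ := (Nat.dvd_prime_pow C.H.prime).1
    (C.P_card ▸ Subgroup.card_dvd_of_le (C.W_le y))
  rcases Nat.lt_or_ge k 1 with h | h
  · exfalso
    obtain ⟨x, hx, rfl⟩ := C.P_trans c hca
    have hxW : x ∈ C.W y := C.mem_W.2 ⟨hx, (C.fix_iff hPn hy hx).1 hc⟩
    have : C.W y = ⊥ := Subgroup.card_eq_one.1 (by rw [hk', show k = 0 by omega, pow_zero])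
    rw [this, Subgroup.mem_bot] at hxW
    exact hcb (by rw [hxW, one_smul])
  rcases Nat.lt_or_ge 1 k with h2 | h2
  · exfalso
    have e : C.W y = C.P := Subgroup.eq_of_le_of_card_ge (C.W_le y)
      (by rw [hk', C.P_card]; exact Nat.pow_le_pow_right C.H.prime.pos h2)
    refine hy1 (eq_of_smul_eq_smul (α := Ω) fun d => ?_)
    rw [one_smul]
    by_cases hda : d = C.a
    · rw [hda]; exact (mem_pair.1 hy).1
    · obtain ⟨x, hx, rfl⟩ := C.P_trans d hda
      exact (C.fix_iff hPn hy hx).2 (C.mem_W.1 (e.symm ▸ hx)).2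
  rw [hk', show k = 1 by omega, pow_one]

theorem false_of_pNormal (hp2 : p ≠ 2) (hZ : ∀ k ∈ C.K, k * C.z * k⁻¹ ∈ C.Z)
    (hPn : C.PNormal) : False := by
  classical
  haveI : Fact p.Prime := ⟨C.H.prime⟩
  haveI := C.H.finite
  have hp3 : 3 ≤ p := by have := C.H.prime.two_le; omega
  obtain ⟨g, hga, hgb, hgD, hgY, hgY'⟩ := C.exists_swap'
  by_cases hker : ∃ y ∈ C.Y, y ≠ 1 ∧ y * C.z = C.z * y
  · obtain ⟨y, hy, hy1, hyz⟩ := hker
    have hy'Y := hgY y hy
    let y' := g * y * g⁻¹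
    have hsub : insert C.b C.D ⊆ orbit (C.W y') C.b := by
      intro d hd
      have hda : d ≠ C.a := by
        rcases hd with rfl | hd
        · exact C.hab.symm
        · exact (C.D_ne hd).1
      have hfix : y' • d = d := by
        rcases hd with rfl | hd
        · exact (mem_pair.1 hy'Y).2
        · rw [← hgD] at hd
          obtain ⟨d₀, hd₀, rfl⟩ := hd
          show (g * y * g⁻¹) • g • d₀ = g • d₀
          rw [mul_smul, inv_smul_smul, mul_smul, C.fix_chart (mem_pair.1 hy).2 hyz hd₀.1]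
      have h : d ∈ {c | y' • c = c} := hfix
      rw [C.fix_eq hPn hy'Y] at h
      exact h.resolve_left hda
    obtain ⟨d, hd⟩ : C.D.Nonempty := Set.nonempty_of_ncard_ne_zero (by rw [C.card_D]; omega)
    have hW : Nat.card (C.W y') = p := by
      refine C.card_W hPn hy'Y (fun e => hy1 (conj_eq_one_iff.1 e)) ?_ (C.D_ne hd).1 (C.D_ne hd).2
      have h : d ∈ insert C.a (orbit (C.W y') C.b) := Or.inr (hsub (Or.inr hd))
      rw [← C.fix_eq hPn hy'Y] at h
      exact h
    refine false_of_orbit C.H C.S C.hab (C.W y') (fun w hw => C.fix_a (C.mem_W.1 hw).1) ?_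
    refine (Set.eq_of_subset_of_ncard_le hsub ?_).symm
    rw [C.card_orbit_b (C.W_le _), hW,
      Set.ncard_insert_of_notMem (fun h => (C.D_ne h).2 rfl), C.card_D]
    omega
  push Not at hker
  -- the multiplier homomorphism
  have hchi : ∀ y : C.Y, ∃ l : ZMod p, C.z ^ l.val = (y : G) * C.z * (y : G)⁻¹ := fun y =>
    C.exists_pow (C.conj_z hZ (mem_pair.1 y.2).1)
  choose chi hchi using hchi
  have hz1 : C.z ^ (1 : ZMod p).val = C.z := by rw [ZMod.val_one, pow_one]
  let φ : C.Y →* ZMod p :=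
    { toFun := chi
      map_one' := C.z_pow_inj (by rw [hchi, hz1]; simp)
      map_mul' := fun y₁ y₂ => C.z_pow_inj (by
        rw [C.z_pow_mul, hchi y₁, conj_pow, hchi y₂, hchi]
        show (y₁ : G) * y₂ * C.z * ((y₁ : G) * y₂)⁻¹ = _
        group) }
  have hφinj : Function.Injective φ := by
    intro y₁ y₂ h
    have h1 : ((y₂ : G)⁻¹ * y₁) * C.z = C.z * ((y₂ : G)⁻¹ * y₁) := by
      have e := congrArg (fun l : ZMod p => C.z ^ l.val) h
      simp only [φ, MonoidHom.coe_mk, OneHom.coe_mk, hchi] at e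
      calc ((y₂ : G)⁻¹ * y₁) * C.z = (y₂ : G)⁻¹ * ((y₁ : G) * C.z * (y₁ : G)⁻¹) * y₁ := by group
        _ = (y₂ : G)⁻¹ * ((y₂ : G) * C.z * (y₂ : G)⁻¹) * y₁ := by rw [e]
        _ = C.z * ((y₂ : G)⁻¹ * y₁) := by group
    by_contra hne
    refine hker _ (mul_mem (inv_mem y₂.2) y₁.2) (fun e => hne ?_) h1
    exact (Subtype.ext (inv_mul_eq_one.1 e)).symm
  haveI hcyc : IsCyclic C.Y := isCyclic_of_injective_ringHom φ hφinj
  have hcomm : ∀ y₁ ∈ C.Y, ∀ y₂ ∈ C.Y, y₁ * y₂ = y₂ * y₁ := fun y₁ h₁ y₂ h₂ => by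
    have := hφinj (a₁ := ⟨y₁, h₁⟩ * ⟨y₂, h₂⟩) (a₂ := ⟨y₂, h₂⟩ * ⟨y₁, h₁⟩)
      (by rw [map_mul, map_mul, mul_comm])
    exact congrArg Subtype.val this
  have hYle : Nat.card C.Y ≤ p - 1 := by
    have hne : ∀ y, φ y ≠ 0 := fun y h => by
      have : φ y * φ y⁻¹ = 1 := by rw [← map_mul, mul_inv_cancel, map_one]
      rw [h, zero_mul] at this
      exact zero_ne_one this
    have h := Nat.card_le_card_of_injective (fun y : C.Y => (⟨φ y, hne y⟩ : {l : ZMod p // l ≠ 0}))
      fun a b h => hφinj (congrArg Subtype.val h)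
    have e : Nat.card {l : ZMod p // l ≠ 0} = p - 1 := by
      show Nat.card ↥({0}ᶜ : Set (ZMod p)) = _
      rw [Nat.card_coe_set_eq, Set.ncard_compl, Set.ncard_singleton, Nat.card_zmod]
    rwa [e] at h
  -- two-point stabilisers fix only two points
  have hsemi : ∀ y ∈ C.Y, y ≠ 1 → ∀ c, y • c = c → c = C.a ∨ c = C.b := by
    intro y hy hy1 c hc
    by_contra hcn
    push Not at hcn
    have hW := C.card_W hPn hy hy1 hc hcn.1 hcn.2
    let d := orderOf y
    let F : Set Ω := {w | y • w = w}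
    have hFc : F.ncard = p + 1 := by
      rw [show F = _ from C.fix_eq hPn hy, Set.ncard_insert_of_notMem,
        C.card_orbit_b (C.W_le _), hW]
      rintro ⟨⟨v, hv⟩, hva⟩
      exact C.hab.symm (smul_left_cancel v
        ((show v • C.b = C.a from hva).trans (C.fix_a (C.mem_W.1 hv).1).symm))
    have htors : ∀ m ∈ C.Y, m ^ d = 1 → m ∈ Subgroup.zpowers y := by
      intro m hm hmd
      let y0 : C.Y := ⟨y, hy⟩
      haveI := Fintype.ofFinite C.Y
      have h1 : (Finset.univ.filter fun a : C.Y => a ^ d = 1).card ≤ d :=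
        IsCyclic.card_pow_eq_one_le (orderOf_pos y)
      have h2 : (Finset.univ.filter fun a : C.Y => a ∈ Subgroup.zpowers y0) ⊆
          (Finset.univ.filter fun a : C.Y => a ^ d = 1) := by
        intro a ha
        simp only [Finset.mem_filter, Finset.mem_univ, true_and] at ha ⊢
        obtain ⟨i, rfl⟩ := Subgroup.mem_zpowers_iff.1 ha
        have hd : d = orderOf y0 := (Subgroup.orderOf_mk y hy).symm
        rw [← zpow_natCast, ← zpow_mul, mul_comm, zpow_mul, zpow_natCast, hd, pow_orderOf_eq_one,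
          one_zpow]
      have h3 : (Finset.univ.filter fun a : C.Y => a ∈ Subgroup.zpowers y0).card = d := by
        rw [← Fintype.card_subtype, ← Nat.card_eq_fintype_card]
        show Nat.card (Subgroup.zpowers y0) = d
        rw [Nat.card_zpowers, Subgroup.orderOf_mk]
      have h4 := Finset.eq_of_subset_of_card_le h2 (by rw [h3]; exact h1)
      have h5 : (⟨m, hm⟩ : C.Y) ∈ Finset.univ.filter fun a : C.Y => a ^ d = 1 := by
        simp only [Finset.mem_filter, Finset.mem_univ, true_and]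
        exact Subtype.ext hmd
      rw [← h4] at h5
      simp only [Finset.mem_filter, Finset.mem_univ, true_and] at h5
      obtain ⟨i, hi⟩ := Subgroup.mem_zpowers_iff.1 h5
      exact Subgroup.mem_zpowers_iff.2 ⟨i, congrArg Subtype.val hi⟩
    let L : Ω → Ω → Set Ω := fun u v =>
      {w | ∀ m ∈ stabilizer G u ⊓ stabilizer G v, m ^ d = 1 → m • w = w}
    have hLab : L C.a C.b = F := by
      ext w
      constructor
      · intro h; exact h y hy (pow_orderOf_eq_one y)
      · intro hw m hm hmd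
        obtain ⟨i, rfl⟩ := Subgroup.mem_zpowers_iff.1 (htors m hm hmd)
        exact mem_stabilizer_iff.1 (zpow_mem (mem_stabilizer_iff.2 hw) i)
    have hL : ∀ u v, u ≠ v → ∃ h : G, L u v = h • F ∧
        stabilizer G u ⊓ stabilizer G v = C.Y.map (MulAut.conj h).toMonoidHom := by
      intro u v huv
      obtain ⟨h, hu, hv⟩ := C.H.two C.a C.b u v C.hab huv
      have e : stabilizer G u ⊓ stabilizer G v = C.Y.map (MulAut.conj h).toMonoidHom := by
        ext m
        rw [Subgroup.mem_map_equiv, mem_pair, mem_pair]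
        simp only [MulAut.conj_symm_apply, mul_smul, hu, hv, inv_smul_eq_iff]
      refine ⟨h, ?_, e⟩
      rw [← hLab]
      ext w
      rw [Set.mem_smul_set_iff_inv_smul_mem]
      simp only [L, Set.mem_ofPred_eq, e]
      constructor
      · intro hw m hm hmd
        have h' := hw _ (Subgroup.mem_map_of_mem _ hm)
          (by rw [MulEquiv.coe_toMonoidHom, ← map_pow, hmd, map_one])
        simp only [MulEquiv.coe_toMonoidHom, MulAut.conj_apply, mul_smul] at h'
        rw [smul_eq_iff_eq_inv_smul] at h'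
        exact h'
      · rintro hw m ⟨m', hm', rfl⟩ hmd
        rw [MulEquiv.coe_toMonoidHom, ← map_pow, map_eq_one_iff _ (MulEquiv.injective _)] at hmd
        simp only [MulEquiv.coe_toMonoidHom, MulAut.conj_apply, mul_smul]
        rw [hw m' hm' hmd, smul_inv_smul]
    refine false_of_lines C.H L (fun u v _ => ⟨fun m hm _ => (mem_pair.1 hm).1,
      fun m hm _ => (mem_pair.1 hm).2⟩) (fun u v huv => ?_) ?_
    · obtain ⟨h, e, -⟩ := hL u v huv
      rw [e, Set.ncard_smul_set, hFc]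
    · intro u v c' d' huv hcd hc' hd'
      obtain ⟨h1, -, e1⟩ := hL u v huv
      obtain ⟨h2, -, e2⟩ := hL c' d' hcd
      let T1 : Set G := {m | m ∈ stabilizer G u ⊓ stabilizer G v ∧ m ^ d = 1}
      let T2 : Set G := {m | m ∈ stabilizer G c' ⊓ stabilizer G d' ∧ m ^ d = 1}
      have hsub : T1 ⊆ T2 := fun m hm => ⟨⟨hc' m hm.1 hm.2, hd' m hm.1 hm.2⟩, hm.2⟩
      have hT : T1 = T2 := Set.eq_of_subset_of_ncard_le hsub (le_of_eq (by
        rw [card_torsion_conj h1 e1, card_torsion_conj h2 e2]))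
      ext w
      refine ⟨fun hw m hm hmd => ?_, fun hw m hm hmd => ?_⟩
      · exact hw m (hT.le (⟨hm, hmd⟩ : m ∈ T1)).1 hmd
      · exact hw m (hT.ge (⟨hm, hmd⟩ : m ∈ T2)).1 hmd
  -- the two-point stabiliser has even order
  have hodd : Odd p := C.H.prime.odd_of_ne_two hp2
  have hn : Nat.card G = (p ^ 2 + 1) * (p ^ 2 * Nat.card C.Y) := by
    haveI : IsPretransitive G Ω := ⟨fun u v => by
      by_cases huv : u = v
      · exact ⟨1, by rw [one_smul, huv]⟩
      · obtain ⟨h, hu, -⟩ := C.H.two u v v u huv (Ne.symm huv)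
        exact ⟨h, hu⟩⟩
    have h := Subgroup.card_mul_index (stabilizer G C.a)
    rw [index_stabilizer_of_transitive, C.H.card, C.card_stab, mul_comm] at h
    exact h.symm
  have heven : 2 ∣ Nat.card C.Y := by
    by_contra hY2
    obtain ⟨m, hm⟩ : ∃ m, p ^ 2 + 1 = 2 * m := even_iff_two_dvd.1 (hodd.pow.add_odd odd_one)
    have hYodd : Odd (Nat.card C.Y) := Nat.odd_iff.2 (by omega)
    have hmodd : Odd m := by
      obtain ⟨k, hk⟩ := hodd
      subst hk
      refine ⟨k ^ 2 + k, ?_⟩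
      ring_nf at hm ⊢
      omega
    have hGa : Odd (Nat.card (stabilizer G C.a)) := by
      rw [C.card_stab]; exact hodd.pow.mul hYodd
    obtain ⟨N, hN, hNm⟩ := exists_index_two
      (hmodd.mul (hodd.pow.mul hYodd) : Odd (m * (p ^ 2 * Nat.card C.Y)))
      (by rw [hn, hm, mul_assoc])
    apply hN
    rw [Subgroup.eq_top_iff']
    intro h
    have hst : ∀ (u : Ω) (k : G), k • u = u → k ∈ N := by
      intro u k hk
      refine hNm k (Odd.of_dvd_nat hGa ?_)
      obtain ⟨r, hr⟩ : ∃ r : G, r • C.a = u := by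
        by_cases hu : u = C.a
        · exact ⟨1, by rw [one_smul, hu]⟩
        · obtain ⟨r, hr, -⟩ := C.H.two C.a u u C.a (Ne.symm hu) hu
          exact ⟨r, hr⟩
      have hmem : r⁻¹ * k * r ∈ stabilizer G C.a := by
        rw [mem_stabilizer_iff, mul_smul, mul_smul, hr, hk, inv_smul_eq_iff, hr]
      have : orderOf (r⁻¹ * k * r) ∣ Nat.card (stabilizer G C.a) := by
        rw [← Subgroup.orderOf_mk _ hmem]; exact orderOf_dvd_natCard _
      have e : r⁻¹ * k * r = MulAut.conj r⁻¹ k := by simp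
      rwa [e, MulEquiv.orderOf_eq] at this
    by_cases hv : h • C.a = C.a
    · exact hst _ h hv
    obtain ⟨u, hu⟩ : ({C.a, h • C.a}ᶜ : Set Ω).Nonempty := by
      refine Set.nonempty_of_ncard_ne_zero ?_
      rw [Set.ncard_compl, Set.ncard_pair (Ne.symm hv), C.H.card]
      have : 4 ≤ p ^ 2 := by nlinarith
      omega
    simp only [Set.mem_compl_iff, Set.mem_insert_iff, Set.mem_singleton_iff, not_or] at hu
    obtain ⟨k, hku, hka⟩ := C.H.two u C.a u (h • C.a) hu.1 hu.2
    have h1 : k⁻¹ * h ∈ N := hst C.a _ (by rw [mul_smul, ← hka, inv_smul_smul])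
    have := mul_mem (hst u k hku) h1
    rwa [mul_inv_cancel_left] at this
  obtain ⟨⟨t0, ht0Y⟩, ht0⟩ := exists_prime_orderOf_dvd_card' 2 heven
  rw [Subgroup.orderOf_mk] at ht0
  -- an involution for each pair
  have hinv : ∀ u v : Ω, u ≠ v → ∃ t : G, orderOf t = 2 ∧ t • u = u ∧ t • v = v ∧
      ∀ w, t • w = w → w = u ∨ w = v := by
    intro u v huv
    obtain ⟨h, hu, hv⟩ := C.H.two C.a C.b u v C.hab huv
    refine ⟨MulAut.conj h t0, ?_, ?_, ?_, ?_⟩
    · rw [MulEquiv.orderOf_eq, ht0]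
    · rw [MulAut.conj_apply, mul_smul, mul_smul, inv_smul_eq_iff.2 hu.symm, (mem_pair.1 ht0Y).1, hu]
    · rw [MulAut.conj_apply, mul_smul, mul_smul, inv_smul_eq_iff.2 hv.symm, (mem_pair.1 ht0Y).2, hv]
    · intro w hw
      rw [MulAut.conj_apply, mul_smul, mul_smul, smul_eq_iff_eq_inv_smul] at hw
      have ht1 : t0 ≠ 1 := fun e => by rw [e, orderOf_one] at ht0; omega
      rcases hsemi t0 ht0Y ht1 _ hw with e | e
      · rw [inv_smul_eq_iff, hu] at e; exact Or.inl e
      · rw [inv_smul_eq_iff, hv] at e; exact Or.inr e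
  -- counting
  haveI := Fintype.ofFinite Ω
  haveI := Fintype.ofFinite G
  choose t ht using hinv
  let Tri : Finset ((Ω × Ω) × Ω) := Finset.univ.filter fun x =>
    x.1.1 ≠ x.1.2 ∧ x.2 ≠ x.1.1 ∧ x.2 ≠ x.1.2
  let Q : Finset (G × Ω) := Finset.univ.filter fun x => x.1 * x.1 = 1 ∧ x.1 • x.2 ≠ x.2
  let f : (Ω × Ω) × Ω → G × Ω := fun x =>
    if h : x.1.1 ≠ x.1.2 then (t x.1.1 x.1.2 h, x.2) else (1, x.2)
  have hfQ : ∀ x ∈ Tri, f x ∈ Q := by
    rintro ⟨⟨u, v⟩, w⟩ hx
    simp only [Tri, Finset.mem_filter, Finset.mem_univ, true_and] at hx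
    simp only [f, dif_pos hx.1, Q, Finset.mem_filter, Finset.mem_univ, true_and]
    obtain ⟨h2, -, -, h5⟩ := ht u v hx.1
    refine ⟨?_, fun e => ?_⟩
    · rw [← sq]; exact orderOf_dvd_iff_pow_eq_one.1 h2.dvd
    · rcases h5 w e with e' | e'
      · exact hx.2.1 e'
      · exact hx.2.2 e'
  have hfib : ∀ y ∈ Q, (Tri.filter fun x => f x = y).card ≤ 2 := by
    rintro ⟨s, w⟩ -
    let Fx : Finset Ω := Finset.univ.filter fun c => s • c = c
    have hsub : (Tri.filter fun x => f x = (s, w)) ⊆ (Fx.offDiag ×ˢ ({w} : Finset Ω)) := by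
      rintro ⟨⟨u, v⟩, w'⟩ hx
      simp only [Tri, Finset.mem_filter, Finset.mem_univ, true_and] at hx
      obtain ⟨⟨huv, -, -⟩, he⟩ := hx
      simp only [f, dif_pos huv, Prod.mk.injEq] at he
      obtain ⟨-, h3, h4, -⟩ := ht u v huv
      rw [he.1] at h3 h4
      simp only [Finset.mem_product, Finset.mem_offDiag, Fx, Finset.mem_filter, Finset.mem_univ,
        true_and, Finset.mem_singleton]
      exact ⟨⟨h3, h4, huv⟩, he.2⟩
    rcases Finset.eq_empty_or_nonempty (Tri.filter fun x => f x = (s, w)) with he | ⟨⟨⟨u, v⟩, w'⟩, hx⟩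
    · rw [he]; simp
    simp only [Tri, Finset.mem_filter, Finset.mem_univ, true_and] at hx
    obtain ⟨⟨huv, -, -⟩, he⟩ := hx
    simp only [f, dif_pos huv, Prod.mk.injEq] at he
    obtain ⟨-, -, -, h5⟩ := ht u v huv
    rw [he.1] at h5
    have hFx : Fx ⊆ {u, v} := fun c hc => by
      simp only [Fx, Finset.mem_filter, Finset.mem_univ, true_and] at hc
      rcases h5 c hc with e | e <;> simp [e]
    refine (Finset.card_le_card hsub).trans ?_
    rw [Finset.card_product, Finset.card_singleton, mul_one]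
    refine (Finset.card_le_card (Finset.offDiag_mono hFx)).trans ?_
    rw [Finset.offDiag_card, Finset.card_pair huv]
  let h : G × Ω → Ω × Ω := fun x => (x.2, x.1 • x.2)
  have hhQ : ∀ x ∈ Q, h x ∈ (Finset.univ : Finset Ω).offDiag := by
    intro x hx
    simp only [Q, Finset.mem_filter, Finset.mem_univ, true_and] at hx
    simp only [h, Finset.mem_offDiag, Finset.mem_univ, true_and]
    exact Ne.symm hx.2
  have hhfib : ∀ y ∈ (Finset.univ : Finset Ω).offDiag, (Q.filter fun x => h x = y).card ≤ p - 1 := by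
    rintro ⟨w, w'⟩ hy
    simp only [Finset.mem_offDiag, Finset.mem_univ, true_and] at hy
    obtain ⟨r, hr, hr'⟩ := C.H.two C.a C.b w w' C.hab hy
    refine le_trans ?_ hYle
    rw [Nat.card_eq_fintype_card]
    let k : G × Ω → G := fun x => g⁻¹ * (r⁻¹ * x.1 * r)
    have hk : ∀ x ∈ Q.filter (fun x => h x = (w, w')), k x ∈ C.Y := by
      rintro ⟨s, u⟩ hx
      simp only [Q, h, Finset.mem_filter, Finset.mem_univ, true_and, Prod.mk.injEq] at hx
      obtain ⟨⟨hs, -⟩, hu, hsu⟩ := hx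
      subst hu
      have hsw' : s • w' = u := by rw [← hsu, smul_smul, hs, one_smul]
      refine mem_pair.2 ⟨?_, ?_⟩
      · show (g⁻¹ * (r⁻¹ * s * r)) • C.a = C.a
        rw [mul_smul, mul_smul, mul_smul, hr, hsu, ← hr', inv_smul_smul, inv_smul_eq_iff, hga]
      · show (g⁻¹ * (r⁻¹ * s * r)) • C.b = C.b
        rw [mul_smul, mul_smul, mul_smul, hr', hsw', ← hr, inv_smul_smul, inv_smul_eq_iff, hgb]
    refine Finset.card_le_card_of_injOn (fun x => if hx : k x ∈ C.Y then (⟨k x, hx⟩ : C.Y) else 1)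
      (fun x _ => Finset.mem_univ _) ?_
    intro x hx x' hx' e
    rw [Finset.mem_coe] at hx hx'
    simp only [dif_pos (hk x hx), dif_pos (hk x' hx'), Subtype.mk.injEq, k, mul_left_cancel_iff,
      mul_right_cancel_iff] at e
    simp only [Q, h, Finset.mem_filter, Prod.mk.injEq] at hx hx'
    exact Prod.ext e (hx.2.1.trans hx'.2.1.symm)
  have c1 : Tri.card ≤ 2 * Q.card :=
    Finset.card_le_mul_card_image_of_maps_to hfQ 2 hfib
  have c2 : Q.card ≤ (p - 1) * (Finset.univ : Finset Ω).offDiag.card :=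
    Finset.card_le_mul_card_image_of_maps_to hhQ (p - 1) hhfib
  have hn' : Fintype.card Ω = p ^ 2 + 1 := by rw [← Nat.card_eq_fintype_card, C.H.card]
  have c3 : (p ^ 2 - 1) * (Finset.univ : Finset Ω).offDiag.card = Tri.card := by
    have e : Tri = (Finset.univ : Finset Ω).offDiag.biUnion
        fun x => (({x.1, x.2} : Finset Ω)ᶜ).image fun w => (x, w) := by
      ext ⟨⟨u, v⟩, w⟩
      simp only [Tri, Finset.mem_filter, Finset.mem_univ, true_and, Finset.mem_biUnion,
        Finset.mem_offDiag, Finset.mem_image, Finset.mem_compl, Finset.mem_insert,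
        Finset.mem_singleton, Prod.mk.injEq, Prod.exists]
      constructor
      · rintro ⟨h1, h2, h3⟩
        exact ⟨u, v, h1, w, by simp [h2, h3], ⟨rfl, rfl⟩, rfl⟩
      · rintro ⟨a, b, h1, w', h2, ⟨rfl, rfl⟩, rfl⟩
        exact ⟨h1, not_or.1 h2⟩
    rw [e, Finset.card_biUnion]
    · rw [Finset.sum_congr rfl fun x hx => ?_, Finset.sum_const, smul_eq_mul, mul_comm]
      rw [Finset.card_image_of_injective _ (fun a b h => (Prod.mk.inj h).2), Finset.card_compl,
        Finset.card_pair (Finset.mem_offDiag.1 hx).2.2, hn']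
      omega
    · intro x _ x' _ hne
      simp only [Function.onFun, Finset.disjoint_left, Finset.mem_image]
      rintro _ ⟨w, -, rfl⟩ ⟨w', -, e'⟩
      exact hne (Prod.mk.inj e').1.symm
  have hpos : 0 < (Finset.univ : Finset Ω).offDiag.card := by
    refine Finset.card_pos.2 ⟨(C.a, C.b), ?_⟩
    simp [C.hab]
  have hfinal : p ^ 2 - 1 ≤ 2 * (p - 1) := by
    refine Nat.le_of_mul_le_mul_right ?_ hpos
    calc (p ^ 2 - 1) * (Finset.univ : Finset Ω).offDiag.card = Tri.card := c3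
      _ ≤ 2 * Q.card := c1
      _ ≤ 2 * ((p - 1) * (Finset.univ : Finset Ω).offDiag.card) := Nat.mul_le_mul_left _ c2
      _ = 2 * (p - 1) * (Finset.univ : Finset Ω).offDiag.card := (mul_assoc _ _ _).symm
  have : 3 * p ≤ p ^ 2 := by rw [sq]; exact Nat.mul_le_mul_right p hp3
  omega

theorem false_odd (C : Ctx G Ω p) (hp2 : p ≠ 2) : False := by
  by_cases hp : ∃ k ∈ C.K, k * C.z * k⁻¹ ∉ C.Z
  · exact C.false_of_not_normal hp2 hp
  · push Not at hp
    exact C.false_of_pNormal hp2 hp (C.pNormal hp)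

theorem card_Y_two (C : Ctx G Ω 2) : Nat.card C.Y = 1 := by
  haveI := C.H.finite
  have hodd : Odd (Nat.card C.Y) := Nat.odd_iff.2 (Nat.two_dvd_ne_zero.1 C.not_dvd)
  rw [Subgroup.card_eq_one, Subgroup.eq_bot_iff_forall]
  intro y hy
  have hy' := mem_pair.1 hy
  refine eq_of_smul_eq_smul (α := Ω) fun c => ?_
  rw [one_smul]
  by_cases hca : c = C.a
  · rw [hca]; exact hy'.1
  have hd : orderOf y ∣ Nat.card C.Y := by
    rw [← Subgroup.orderOf_mk _ hy]; exact orderOf_dvd_natCard _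
  obtain ⟨k, hk⟩ : Odd (orderOf y) := Odd.of_dvd_nat hodd hd
  have hB2 : ∀ d, d ∈ C.B → d ≠ C.b → y • d = d := by
    intro d hd hdb
    have h1 : y • d ∈ C.B \ {C.b} := by
      refine ⟨C.Y_B hy ▸ smul_mem_smul_set hd, fun e => hdb (smul_left_cancel y (e.trans hy'.2.symm))⟩
    obtain ⟨u, hu⟩ := Set.ncard_eq_one.1 C.card_B_sdiff
    have h2 : d ∈ C.B \ {C.b} := ⟨hd, hdb⟩
    rw [hu, Set.mem_singleton_iff] at h1 h2
    rw [h1, h2]
  by_cases hcB : c ∈ C.B
  · by_cases hcb : c = C.b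
    · rw [hcb]; exact hy'.2
    · exact hB2 c hcB hcb
  -- the remaining two points
  have hy2 : (y * y) • c = c := by
    let R : Set Ω := ({C.a}ᶜ : Set Ω) \ C.B
    have hR : R.ncard = 2 := by
      have hsub : C.B ⊆ ({C.a}ᶜ : Set Ω) := fun d hd e => by
        rw [Set.mem_singleton_iff] at e
        rw [e] at hd
        exact C.S.notMem C.hab hd
      rw [Set.ncard_sdiff hsub, Set.ncard_compl, Set.ncard_singleton, C.H.card, C.S.card C.hab]
      norm_num
    have hyR : ∀ d ∈ R, y • d ∈ R := by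
      intro d hd
      refine ⟨C.ne_a hy'.1 hd.1, fun h => hd.2 ?_⟩
      rw [← C.Y_B hy, Set.smul_mem_smul_set_iff] at h
      exact h
    have hcR : c ∈ R := ⟨hca, hcB⟩
    obtain ⟨u, v, huv, huv'⟩ := Set.ncard_eq_two.1 hR
    have hmem : ∀ d, d ∈ R ↔ d = u ∨ d = v := fun d => by rw [huv']; simp
    have h0 := (hmem c).1 hcR
    have h1 := (hmem _).1 (hyR c hcR)
    have h2 := (hmem _).1 (hyR _ (hyR c hcR))
    rw [mul_smul]
    by_cases e : y • c = c
    · rw [e, e]
    · have hne : y • y • c ≠ y • c := fun e' => e (smul_left_cancel y e')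
      rcases h0 with h0 | h0 <;> rcases h1 with h1 | h1 <;> rcases h2 with h2 | h2 <;>
        first
        | exact absurd (h1.trans h0.symm) e
        | exact absurd (h2.trans h1.symm) hne
        | exact h2.trans h0.symm
  have hfix : ∀ n : ℕ, ((y * y) ^ n) • c = c := fun n =>
    mem_stabilizer_iff.1 (pow_mem (mem_stabilizer_iff.2 hy2) n)
  have h : y = (y * y) ^ (k + 1) := by
    rw [← sq, ← pow_mul, show 2 * (k + 1) = (2 * k + 1) + 1 by ring, ← hk, pow_succ,
      pow_orderOf_eq_one, one_mul]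
  rw [h]; exact hfix _

end Ctx

end CfsgLib.DeltaSq
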